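import Groth.Agent.Lib.FEtEq25.Cat

/-!
# Geometric points through given points, faithfulness of restriction
-/

universe u

open CategoryTheory CategoryTheory.Limits AlgebraicGeometry TopologicalSpace Opposite

noncomputable section

namespace Groth.Agent.FEtEq25

variable {X : Scheme.{u}}

/-- A geometric fibre meets every point over the underlying point. -/
theorem exists_fiber_point {K : Type u} [Field K] [IsAlgClosed K]
    (ξ : Spec (CommRingCat.of K) ⟶ X) {Z : Scheme.{u}} (g : Z ⟶ X) [IsFinite g] (z : Z)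
    (hz : g z = ξ (IsLocalRing.closedPoint K)) :
    ∃ s : Spec (CommRingCat.of K) ⟶ Z, s ≫ g = ξ ∧ s (IsLocalRing.closedPoint K) = z := by
  obtain ⟨p, hp1, -⟩ :=
    Scheme.Pullback.exists_preimage_pullback (f := g) (g := ξ) z (IsLocalRing.closedPoint K) hz
  have : Subsingleton ↥(Spec (CommRingCat.of K)) :=
    inferInstanceAs (Subsingleton (PrimeSpectrum K))
  have : JacobsonSpace ↥(pullback g ξ) := LocallyOfFiniteType.jacobsonSpace (pullback.snd g ξ)
  have : Finite ↥(pullback g ξ) := by
    have h : (pullback.snd g ξ ⁻¹' {IsLocalRing.closedPoint K}).Finite :=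
      (pullback.snd g ξ).finite_preimage_singleton _
    exact Set.finite_univ_iff.1 (h.subset fun x _ => Subsingleton.elim _ _)
  have hclosed : IsClosed ({p} : Set ↥(pullback g ξ)) := isClosed_discrete _
  refine ⟨pointOfClosedPoint (pullback.snd g ξ) p hclosed ≫ pullback.fst g ξ, ?_, ?_⟩
  · rw [Category.assoc, pullback.condition, pointOfClosedPoint_comp_assoc]
  · rw [Scheme.Hom.comp_apply, pointOfClosedPoint_apply]
    exact hp1

/-- A geometric point over any point. -/
theorem exists_geomPoint {W : Scheme.{u}} (p : W) :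
    ∃ (K : Type u) (_ : Field K) (_ : IsAlgClosed K) (g : Spec (CommRingCat.of K) ⟶ W),
      ∀ x, g x = p := by
  refine ⟨AlgebraicClosure (W.residueField p), inferInstance, inferInstance,
    Spec.map (CommRingCat.ofHom (algebraMap (W.residueField p) _)) ≫ W.fromSpecResidueField p,
    fun x => ?_⟩
  rw [Scheme.Hom.comp_apply]
  exact Scheme.fromSpecResidueField_apply p _

/-- The image of a clopen subset of a finite étale cover is clopen. -/
theorem isClopen_image {Z : Scheme.{u}} (g : Z ⟶ X) [IsFinite g] [Etale g] {S : Set Z}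
    (hS : IsClopen S) : IsClopen (g '' S) :=
  ⟨g.isClosedMap _ hS.1, g.isOpenMap _ hS.2⟩

/-- The locus where two maps over the base agree. -/
def eqLocusSet {V W : Scheme.{u}} (g : W ⟶ X) (a b : V ⟶ W) (h : a ≫ g = b ≫ g) : Set V :=
  Set.range (pullback.fst (pullback.lift a b h) (pullback.diagonal g))

/-- The points where two maps into a finite étale scheme agree form a clopen set. -/
theorem isClopen_eqLocusSet {V W : Scheme.{u}} (g : W ⟶ X) [IsFinite g] [Etale g] (a b : V ⟶ W)
    (h : a ≫ g = b ≫ g) : IsClopen (eqLocusSet g a b h) :=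
  ⟨(pullback.fst (pullback.lift a b h) (pullback.diagonal g)).isClosedEmbedding.isClosed_range,
    (pullback.fst (pullback.lift a b h) (pullback.diagonal g)).isOpenEmbedding.isOpen_range⟩

/-- Maps which agree at a geometric point agree at its image. -/
theorem mem_eqLocusSet_of_eq {V W : Scheme.{u}} (g : W ⟶ X) (a b : V ⟶ W) (h : a ≫ g = b ≫ g)
    {K : Type u} [Field K] (s : Spec (CommRingCat.of K) ⟶ V) (hs : s ≫ a = s ≫ b) :
    s (IsLocalRing.closedPoint K) ∈ eqLocusSet g a b h := by
  let t : Spec (CommRingCat.of K) ⟶ pullback (pullback.lift a b h) (pullback.diagonal g) :=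
    pullback.lift s (s ≫ a) (by
      apply pullback.hom_ext
      · simp only [Category.assoc, pullback.diagonal_fst, Category.comp_id]
        erw [pullback.lift_fst]
      · simp only [Category.assoc, pullback.diagonal_snd, Category.comp_id]
        erw [pullback.lift_snd]
        exact hs.symm)
  refine ⟨t (IsLocalRing.closedPoint K), ?_⟩
  rw [← Scheme.Hom.comp_apply]
  simp only [t, pullback.lift_fst]

/-- Maps agreeing everywhere are equal. -/
theorem eq_of_eqLocusSet {V W : Scheme.{u}} (g : W ⟶ X) [IsFinite g] [Etale g] (a b : V ⟶ W)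
    (h : a ≫ g = b ≫ g) (hall : ∀ y, y ∈ eqLocusSet g a b h) : a = b := by
  let e := pullback.fst (pullback.lift a b h) (pullback.diagonal g)
  have : Surjective e := ⟨hall⟩
  have : IsIso e := (isIso_iff_isOpenImmersion_and_surjective _).2 ⟨inferInstance, inferInstance⟩
  rw [← cancel_epi e]
  have hc := pullback.condition (f := pullback.lift a b h) (g := pullback.diagonal g)
  have h1 := congrArg (· ≫ pullback.fst g g) hc
  have h2 := congrArg (· ≫ pullback.snd g g) hc
  simp only [Category.assoc, pullback.lift_fst, pullback.lift_snd, pullback.diagonal_fst,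
    pullback.diagonal_snd] at h1 h2
  exact h1.trans h2.symm

/-- Two maps agreeing at geometric fibres over a set meeting all nonempty clopens are equal. -/
theorem eq_of_fibres {Y Z : FEt.Cat X} (a b : Y ⟶ Z) (T : Set X)
    (hT : ∀ S : Set X, IsClopen S → S.Nonempty → (S ∩ T).Nonempty)
    (h : ∀ x ∈ T, ∃ (K : Type u) (_ : Field K) (_ : IsAlgClosed K)
      (ξ : Spec (CommRingCat.of K) ⟶ X), ξ (IsLocalRing.closedPoint K) = x ∧
        ∀ s : FEt.fiberObj ξ Y, (FEt.fiber ξ).map a s = (FEt.fiber ξ).map b s) : a = b := by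
  ext : 1
  refine eq_of_eqLocusSet Z.hom a.left b.left ((w a).trans (w b).symm) fun y => ?_
  by_contra hy
  obtain ⟨x, ⟨y', hy', rfl⟩, hxT⟩ :=
    hT _ (isClopen_image Y.hom (isClopen_eqLocusSet Z.hom a.left b.left ((w a).trans (w b).symm)).compl) ⟨_, y, hy, rfl⟩
  obtain ⟨K, _, _, ξ, hξ, hs⟩ := h _ hxT
  obtain ⟨s, hsξ, hspt⟩ := exists_fiber_point ξ Y.hom y' hξ.symm
  exact hy' (hspt ▸ mem_eqLocusSet_of_eq Z.hom a.left b.left ((w a).trans (w b).symm) s (congrArg Subtype.val (hs ⟨s, hsξ⟩)))

/-- Restriction along a map whose image meets all nonempty clopens is faithful. -/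
theorem faithful_restrict {X' : Scheme.{u}} (f : X' ⟶ X)
    (hT : ∀ S : Set X, IsClopen S → S.Nonempty → (S ∩ Set.range f).Nonempty) :
    (FEt.restrict f).Faithful where
  map_injective {Y Z a b} hab := by
    refine eq_of_fibres a b _ hT fun x hx => ?_
    obtain ⟨x', rfl⟩ := hx
    obtain ⟨K, _, _, g, hg⟩ := exists_geomPoint x'
    refine ⟨K, inferInstance, inferInstance, g ≫ f, by rw [Scheme.Hom.comp_apply, hg], fun s => ?_⟩
    obtain ⟨s', rfl⟩ := ((restrictFiberIso f g).app Y).toEquiv.surjective s
    have h1 := ConcreteCategory.congr_hom ((restrictFiberIso f g).hom.naturality a) s'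
    have h2 := ConcreteCategory.congr_hom ((restrictFiberIso f g).hom.naturality b) s'
    refine h1.symm.trans (Eq.trans ?_ h2)
    simp [hab]

/-- On a connected base a map bijective on one geometric fibre is an isomorphism. -/
theorem isIso_of_bijective_fibre [PreconnectedSpace X] {K : Type u} [Field K] [IsAlgClosed K]
    (ξ : Spec (CommRingCat.of K) ⟶ X) {Y Z : FEt.Cat X} (φ : Y ⟶ Z)
    (h : Function.Bijective ((FEt.fiber ξ).map φ)) : IsIso φ := by
  have hclopen : ∀ S : Set X, IsClopen S → ξ (IsLocalRing.closedPoint K) ∉ S → S = ∅ :=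
    fun S hS hx => (isClopen_iff.1 hS).resolve_right fun hu => hx (hu ▸ Set.mem_univ _)
  have hsurj : Surjective φ.left := by
    refine ⟨fun z => ?_⟩
    by_contra hz
    have hc : IsClopen ((Set.range φ.left)ᶜ) :=
      (by rw [← Set.image_univ]; exact (isClopen_image φ.left isClopen_univ).compl)
    have h0 := hclopen _ (isClopen_image Z.hom hc) (by
      rintro ⟨z', hz', hz'x⟩
      obtain ⟨s, hs, hspt⟩ := exists_fiber_point ξ Z.hom z' hz'x
      obtain ⟨⟨t, ht⟩, hts⟩ := h.2 ⟨s, hs⟩
      have h2 : t ≫ φ.left = s := congrArg Subtype.val hts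
      refine hz' ⟨t (IsLocalRing.closedPoint K), ?_⟩
      rw [← Scheme.Hom.comp_apply, h2, hspt])
    exact Set.eq_empty_iff_forall_notMem.1 h0 _ ⟨z, hz, rfl⟩
  have hinj : UniversallyInjective φ.left := by
    rw [UniversallyInjective.iff_diagonal]
    refine ⟨fun p => ?_⟩
    by_contra hp
    have hC : IsClopen ((Set.range (pullback.diagonal φ.left))ᶜ) :=
      (IsClopen.compl ⟨(pullback.diagonal φ.left).isClosedEmbedding.isClosed_range,
        (pullback.diagonal φ.left).isOpenEmbedding.isOpen_range⟩)
    have h0 := hclopen _ (isClopen_image (pullback.fst φ.left φ.left ≫ Y.hom) hC) (by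
      rintro ⟨p', hp', hp'x⟩
      obtain ⟨s, hs, hspt⟩ := exists_fiber_point ξ (pullback.fst φ.left φ.left ≫ Y.hom) p' hp'x
      have hcond : (s ≫ pullback.fst φ.left φ.left) ≫ φ.left =
          (s ≫ pullback.snd φ.left φ.left) ≫ φ.left := by
        simp only [Category.assoc, pullback.condition]
      have hs1 : (s ≫ pullback.fst φ.left φ.left) ≫ Y.hom = ξ := by rw [Category.assoc]; exact hs
      have hs2 : (s ≫ pullback.snd φ.left φ.left) ≫ Y.hom = ξ := by
        rw [← hs1, ← w φ]
        simp only [Category.assoc, pullback.condition_assoc]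
      have heq : s ≫ pullback.fst φ.left φ.left = s ≫ pullback.snd φ.left φ.left :=
        congrArg Subtype.val (h.1 (a₁ := ⟨_, hs1⟩) (a₂ := ⟨_, hs2⟩) (Subtype.ext hcond))
      have hfac : s = (s ≫ pullback.fst φ.left φ.left) ≫ pullback.diagonal φ.left := by
        apply pullback.hom_ext
        · simp
        · simp [← heq]
      refine hp' ⟨(s ≫ pullback.fst φ.left φ.left) (IsLocalRing.closedPoint K), ?_⟩
      rw [← Scheme.Hom.comp_apply, ← hfac, hspt])
    exact Set.eq_empty_iff_forall_notMem.1 h0 _ ⟨p, hp, rfl⟩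
  have := Groth.Agent.S3694.result φ.left
  have : IsIso φ.left :=
    (isIso_iff_isOpenImmersion_and_surjective _).2 ⟨inferInstance, inferInstance⟩
  let e : Y ≅ Z := MorphismProperty.Over.isoMk (asIso φ.left) (w φ)
  have he : e.hom = φ := by ext; rfl
  rw [← he]; infer_instance

end Groth.Agent.FEtEq25
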