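import Mathlib.AlgebraicGeometry.Morphisms.Flat
import Mathlib.AlgebraicGeometry.Morphisms.Finite
import Mathlib.AlgebraicGeometry.Morphisms.Etale
import Mathlib.RingTheory.Finiteness.Projective
import Mathlib.Algebra.Category.Ring.Constructions
import Mathlib.RingTheory.RingHom.Flat
import Mathlib.RingTheory.Flat.EquationalCriterion
import Mathlib.RingTheory.Finiteness.ModuleFinitePresentation

/-!
# Sections of finite locally free covers after a base change with trivial push forward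
-/

universe u

open CategoryTheory CategoryTheory.Limits AlgebraicGeometry TopologicalSpace Opposite

noncomputable section

namespace Groth.Agent.FEtEq25

/-- Coordinates on a base change of a finite projective algebra. -/
theorem exists_coord {A B C P : CommRingCat.{u}} {fA : A ⟶ C} {hB : A ⟶ B} {pC : C ⟶ P}
    {qB : B ⟶ P} (H : IsPushout fA hB pC qB) {n : ℕ} (φ : Fin n → B → A) (b : Fin n → B)
    (hadd : ∀ j x y, φ j (x + y) = φ j x + φ j y) (hsmul : ∀ j a x, φ j (hB a * x) = a * φ j x)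
    (hsum : ∀ x, x = ∑ j, hB (φ j x) * b j) :
    ∃ ψ : Fin n → P → C, (∀ j v w, ψ j (v + w) = ψ j v + ψ j w) ∧
      (∀ j v x, ψ j (pC v * qB x) = v * fA (φ j x)) ∧
      (∀ z, z = ∑ j, pC (ψ j z) * qB (b j)) ∧
      ∀ (Q : P → Prop), Q 0 → (∀ v x, Q (pC v * qB x)) → (∀ v w, Q v → Q w → Q (v + w)) → ∀ z, Q z := by
  letI := fA.hom.toAlgebra
  letI := hB.hom.toAlgebra
  letI := pC.hom.toAlgebra
  letI := qB.hom.toAlgebra
  letI : Algebra A P := (fA ≫ pC).hom.toAlgebra
  haveI : IsScalarTower A C P := IsScalarTower.of_algebraMap_eq fun _ => rfl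
  haveI : IsScalarTower A B P := IsScalarTower.of_algebraMap_eq fun a =>
    ConcreteCategory.congr_hom H.w a
  have hP : Algebra.IsPushout A C B P := CommRingCat.isPushout_iff_isPushout.1 H
  have hbc := hP.out
  let φl : Fin n → B →ₗ[A] A := fun j =>
    { toFun := φ j, map_add' := hadd j, map_smul' := fun a x => by
        show φ j (hB a * x) = a * φ j x
        exact hsmul j a x }
  let ψ : Fin n → P →ₗ[C] C := fun j => hbc.lift ((Algebra.linearMap A C).comp (φl j))
  have hψq : ∀ j x, ψ j (qB x) = fA (φ j x) := fun j x => hbc.lift_eq _ x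
  have hpq : ∀ (v : C) (x : B), pC v * qB x = v • (qB x : P) := fun v x => rfl
  refine ⟨fun j z => ψ j z, fun j v w => map_add _ _ _, fun j v x => ?_, fun z => ?_, ?_⟩
  · show ψ j _ = _
    rw [hpq, map_smul, hψq, smul_eq_mul]
  · let L : P →ₗ[C] P := ∑ j, (ψ j).smulRight (qB (b j) : P)
    have : L = LinearMap.id := hbc.algHom_ext _ _ fun x => by
      show L (qB x) = qB x
      conv_rhs => rw [hsum x, map_sum]
      simp only [L, LinearMap.coe_sum, Finset.sum_apply, LinearMap.smulRight_apply, hψq, map_mul]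
      refine Finset.sum_congr rfl fun j _ => ?_
      rw [← hpq]
      exact congrArg (· * _) (ConcreteCategory.congr_hom H.w (φ j x))
    have hz := congrArg (fun g => g z) this
    simp only [L, LinearMap.coe_sum, Finset.sum_apply, LinearMap.smulRight_apply,
      LinearMap.id_apply] at hz
    exact hz.symm.trans (Finset.sum_congr rfl fun j _ => (hpq _ _).symm)
  · intro Q h0 hpr hadd z
    have key : ∀ z : P, ∀ v : C, Q (v • z) := by
      intro z
      induction z using hbc.inductionOn with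
      | zero => intro v; rwa [smul_zero]
      | tmul x => intro v; exact hpr v x
      | smul s z hz => intro v; rw [smul_smul]; exact hz _
      | add a b ha hb => intro v; rw [smul_add]; exact hadd _ _ (ha v) (hb v)
    simpa using key z 1

variable {X S Z W : Scheme.{u}} {f : X ⟶ S} {h : Z ⟶ S} {p : W ⟶ X} {q : W ⟶ Z}

/-- The affine case. -/
theorem bijective_appTop_of_affine [IsAffine S] [IsAffine Z] (H : IsPullback p q f h)
    (hf : Function.Bijective f.appTop) (hfin : h.appTop.hom.Finite)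
    (hflat : h.appTop.hom.Flat) (hfp : h.appTop.hom.FinitePresentation) :
    Function.Bijective q.appTop := by
  have hproj : ∃ (n : ℕ) (φ : Fin n → Γ(Z, ⊤) → Γ(S, ⊤)) (b : Fin n → Γ(Z, ⊤)),
      (∀ j x y, φ j (x + y) = φ j x + φ j y) ∧
      (∀ j a x, φ j (h.appTop a * x) = a * φ j x) ∧
      (∀ x, x = ∑ j, h.appTop (φ j x) * b j) := by
    algebraize [h.appTop.hom]
    have : Module.FinitePresentation Γ(S, ⊤) Γ(Z, ⊤) :=
      Module.FinitePresentation.of_finite_of_finitePresentation _ _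
    have : Module.Projective Γ(S, ⊤) Γ(Z, ⊤) := Module.Flat.projective_of_finitePresentation
    obtain ⟨n, g, s, -, -, hgs⟩ := Module.Finite.exists_comp_eq_id_of_projective Γ(S, ⊤) Γ(Z, ⊤)
    refine ⟨n, fun j x => s x j, fun j => g (Pi.single j 1), fun j x y => by simp,
      fun j a x => ?_, fun x => ?_⟩
    · show s (a • x) j = a * s x j
      simp
    · conv_lhs => rw [← LinearMap.id_apply (R := Γ(S, ⊤)) x, ← hgs, LinearMap.comp_apply,
        pi_eq_sum_univ' (s x), map_sum]
      exact Finset.sum_congr rfl fun j _ => map_smul g _ _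
  obtain ⟨n, φ, b, hadd, hsmul, hsum⟩ := hproj
  have hle : ∀ V : X.Opens, p ⁻¹ᵁ V ≤ q ⁻¹ᵁ ⊤ := fun V => le_top
  have hpo : ∀ V : X.affineOpens, IsPushout (f.appLE ⊤ V.1 le_top) h.appTop
      (p.app V.1) (q.appLE ⊤ (p ⁻¹ᵁ V.1) (hle _)) := by
    intro V
    have hiso := isIso_pushoutSection_of_isAffineOpen H (US := ⊤) (UT := ⊤) (UX := V.1)
      (UY := p ⁻¹ᵁ V.1) le_top le_top (by simp) (isAffineOpen_top S) (isAffineOpen_top Z) V.2
    have := (isIso_pushoutSection_iff H (US := ⊤) (UT := ⊤) (UX := V.1) (UY := p ⁻¹ᵁ V.1)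
      le_top le_top (by simp)).1 hiso
    simpa [Scheme.Hom.app_eq_appLE, Scheme.Hom.appTop] using this
  choose ψ hψadd hψ hψsum hψind using fun V => exists_coord (hpo V) φ b hadd hsmul hsum
  have hψ0 : ∀ V j, ψ V j 0 = 0 := fun V j => by
    simpa using hψadd V j 0 0
  -- coordinates commute with restriction
  have hres : ∀ (V V' : X.affineOpens) (hVV : V'.1 ≤ V.1) j z,
      X.presheaf.map (homOfLE hVV).op (ψ V j z) =
        ψ V' j (W.presheaf.map (homOfLE (p.preimage_mono hVV)).op z) := by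
    intro V V' hVV j
    refine hψind V _ ?_ ?_ ?_
    · simp only [map_zero, hψ0]
    · intro v x
      rw [hψ, map_mul, map_mul]
      have h1 : W.presheaf.map (homOfLE (p.preimage_mono hVV)).op (p.app V.1 v) =
          p.app V'.1 (X.presheaf.map (homOfLE hVV).op v) :=
        (ConcreteCategory.congr_hom (p.naturality (homOfLE hVV).op) v).symm
      have h2 : W.presheaf.map (homOfLE (p.preimage_mono hVV)).op
          (q.appLE ⊤ (p ⁻¹ᵁ V.1) (hle _) x) = q.appLE ⊤ (p ⁻¹ᵁ V'.1) (hle _) x := by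
        rw [← CommRingCat.comp_apply, Scheme.Hom.appLE_map]
      have h3 : X.presheaf.map (homOfLE hVV).op (f.appLE ⊤ V.1 le_top (φ j x)) =
          f.appLE ⊤ V'.1 le_top (φ j x) := by
        rw [← CommRingCat.comp_apply, Scheme.Hom.appLE_map]
      rw [h1, h2, h3, hψ]
    · intro v w hv hw
      simp only [hψadd, map_add, hv, hw]
  have hcov : ⨆ V : X.affineOpens, V.1 = ⊤ := iSup_affineOpens_eq_top X
  have hcovW : ⨆ V : X.affineOpens, p ⁻¹ᵁ V.1 = ⊤ := by
    rw [← p.preimage_iSup, hcov]; rfl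
  refine ⟨?_, fun z => ?_⟩
  · -- injectivity
    rw [injective_iff_map_eq_zero]
    intro x hx
    rw [hsum x]
    refine Finset.sum_eq_zero fun j _ => ?_
    suffices φ j x = 0 by rw [this, map_zero, zero_mul]
    refine hf.1 (Eq.trans ?_ (map_zero _).symm)
    refine X.sheaf.eq_of_locally_eq' (fun V : X.affineOpens => V.1) ⊤ (fun V => homOfLE le_top)
      hcov.ge _ _ fun V => ?_
    show X.presheaf.map (homOfLE le_top).op (f.appTop (φ j x)) = X.presheaf.map _ 0
    rw [map_zero]
    rw [show X.presheaf.map (homOfLE le_top).op (f.appTop (φ j x)) =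
      f.appLE ⊤ V.1 le_top (φ j x) from rfl]
    have := hψ V j 1 x
    rw [map_one, one_mul, one_mul] at this
    rw [← this]
    have h0 : q.appLE ⊤ (p ⁻¹ᵁ V.1) (hle _) x = 0 := by
      rw [Scheme.Hom.appLE, CommRingCat.comp_apply]
      show W.presheaf.map _ (q.appTop x) = 0
      rw [hx, map_zero]
    rw [h0, hψ0]
  · -- surjectivity
    let c : Fin n → ∀ V : X.affineOpens, Γ(X, V.1) := fun j V =>
      ψ V j (W.presheaf.map (homOfLE le_top).op z)
    have hcomp : ∀ j, TopCat.Presheaf.IsCompatible X.presheaf (fun V : X.affineOpens => V.1) (c j) := by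
      intro j V V'
      refine X.sheaf.eq_of_locally_eq'
        (fun V'' : {V'' : X.affineOpens // V''.1 ≤ V.1 ⊓ V'.1} => V''.1.1) (V.1 ⊓ V'.1)
        (fun V'' => homOfLE V''.2) ?_ _ _ fun V'' => ?_
      · intro x hx
        obtain ⟨U, hU, hxU, hUle⟩ := exists_isAffineOpen_mem_and_subset hx
        exact Opens.mem_iSup.2 ⟨⟨⟨U, hU⟩, hUle⟩, hxU⟩
      · show X.presheaf.map _ (X.presheaf.map _ _) = X.presheaf.map _ (X.presheaf.map _ _)
        rw [← CommRingCat.comp_apply, ← CommRingCat.comp_apply, ← X.presheaf.map_comp,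
          ← X.presheaf.map_comp]
        refine Eq.trans (hres V V''.1 (V''.2.trans inf_le_left) j _) ?_
        refine Eq.trans ?_ (hres V' V''.1 (V''.2.trans inf_le_right) j _).symm
        rw [← CommRingCat.comp_apply, ← CommRingCat.comp_apply, ← W.presheaf.map_comp,
          ← W.presheaf.map_comp]
        rfl
    choose s hs hsu using fun j => X.sheaf.existsUnique_gluing' (fun V : X.affineOpens => V.1) ⊤
      (fun V => homOfLE le_top) hcov.ge (c j) (hcomp j)
    choose a ha using fun j => hf.2 (s j)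
    refine ⟨∑ j, h.appTop (a j) * b j, ?_⟩
    refine W.sheaf.eq_of_locally_eq' (fun V : X.affineOpens => p ⁻¹ᵁ V.1) ⊤
      (fun V => homOfLE le_top) hcovW.ge _ _ fun V => ?_
    show W.presheaf.map _ _ = W.presheaf.map _ z
    conv_rhs => rw [hψsum V (W.presheaf.map _ z)]
    rw [map_sum, map_sum]
    refine Finset.sum_congr rfl fun j _ => ?_
    rw [map_mul, map_mul]
    have h4 : W.presheaf.map (homOfLE le_top : p ⁻¹ᵁ V.1 ⟶ ⊤).op (q.appTop (b j)) =
        q.appLE ⊤ (p ⁻¹ᵁ V.1) (hle _) (b j) := rfl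
    have h5 : W.presheaf.map (homOfLE le_top : p ⁻¹ᵁ V.1 ⟶ ⊤).op (q.appTop (h.appTop (a j))) =
        p.app V.1 (c j V) := by
      rw [← show X.presheaf.map (homOfLE le_top : V.1 ⟶ ⊤).op (s j) = c j V from hs j V, ← ha j,
        ← CommRingCat.comp_apply h.appTop, ← Scheme.Hom.comp_appTop, ← H.w,
        Scheme.Hom.comp_appTop, CommRingCat.comp_apply]
      exact (ConcreteCategory.congr_hom (p.naturality (homOfLE le_top : V.1 ⟶ ⊤).op) _).symm
    rw [h4, h5]

/-- Sections of a finite étale cover do not change after pulling back along `f` with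
`𝒪_S = f_* 𝒪_X`. -/
theorem bijective_appTop (H : IsPullback p q f h) [IsFinite h] [Etale h]
    (hf : ∀ U : S.Opens, Function.Bijective (f.app U)) : Function.Bijective q.appTop := by
  have key : ∀ U : S.affineOpens, Function.Bijective (q.app (h ⁻¹ᵁ U.1)) := by
    intro U
    have hT : IsAffineOpen (h ⁻¹ᵁ U.1) := U.2.preimage h
    have hUY : q ⁻¹ᵁ (h ⁻¹ᵁ U.1) = p ⁻¹ᵁ (f ⁻¹ᵁ U.1) ⊓ q ⁻¹ᵁ (h ⁻¹ᵁ U.1) := by
      rw [← Scheme.Hom.comp_preimage, ← Scheme.Hom.comp_preimage, H.w, inf_idem]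
    have H' := Scheme.Hom.isPullback_resLE H (US := U.1) (UT := h ⁻¹ᵁ U.1) (UX := f ⁻¹ᵁ U.1)
      (UY := q ⁻¹ᵁ (h ⁻¹ᵁ U.1)) le_rfl le_rfl hUY
    have : IsAffine (U.1 : Scheme.{u}) := U.2
    have : IsAffine ((h ⁻¹ᵁ U.1) : Scheme.{u}) := hT
    have hfb : Function.Bijective (f.resLE U.1 (f ⁻¹ᵁ U.1) le_rfl).appTop := by
      rw [Scheme.Hom.appTop, Scheme.Hom.resLE_app_top, ← Scheme.Hom.app_eq_appLE]
      exact ((ConcreteCategory.bijective_of_isIso (f ⁻¹ᵁ U.1).topIso.inv).comp (hf U.1)).comp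
        (ConcreteCategory.bijective_of_isIso U.1.topIso.hom)
    have : IsFinite (h.resLE U.1 (h ⁻¹ᵁ U.1) le_rfl) := by
      rw [Scheme.Hom.resLE_eq_morphismRestrict]
      exact IsZariskiLocalAtTarget.restrict ‹IsFinite h› U.1
    have : Etale (h.resLE U.1 (h ⁻¹ᵁ U.1) le_rfl) := by
      rw [Scheme.Hom.resLE_eq_morphismRestrict]
      exact IsZariskiLocalAtTarget.restrict ‹Etale h› U.1
    have hb := bijective_appTop_of_affine H' hfb
      (Scheme.Hom.finite_appTop _)
      ((HasRingHomProperty.iff_of_isAffine (P := @Flat)).1 inferInstance)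
      ((HasRingHomProperty.iff_of_isAffine (P := @LocallyOfFinitePresentation)).1 inferInstance)
    rw [Scheme.Hom.appTop, Scheme.Hom.resLE_app_top, ← Scheme.Hom.app_eq_appLE] at hb
    replace hb : Function.Bijective (((q ⁻¹ᵁ (h ⁻¹ᵁ U.1)).topIso.inv ∘ q.app (h ⁻¹ᵁ U.1)) ∘
      (h ⁻¹ᵁ U.1).topIso.hom) := hb
    have h1 := (Function.Bijective.of_comp_iff _
      (ConcreteCategory.bijective_of_isIso (h ⁻¹ᵁ U.1).topIso.hom)).1 hb
    exact (Function.Bijective.of_comp_iff'
      (ConcreteCategory.bijective_of_isIso (q ⁻¹ᵁ (h ⁻¹ᵁ U.1)).topIso.inv) _).1 h1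
  have hnat : ∀ (V V' : Z.Opens) (hV : V' ≤ V) (x : Γ(Z, V)),
      q.app V' (Z.presheaf.map (homOfLE hV).op x) =
        W.presheaf.map (homOfLE (q.preimage_mono hV)).op (q.app V x) := fun V V' hV x =>
    ConcreteCategory.congr_hom (q.naturality (homOfLE hV).op) x
  have hcov : ⨆ U : S.affineOpens, h ⁻¹ᵁ U.1 = ⊤ := by
    rw [← h.preimage_iSup, iSup_affineOpens_eq_top S]; rfl
  have hcovW : ⨆ U : S.affineOpens, q ⁻¹ᵁ (h ⁻¹ᵁ U.1) = ⊤ := by
    rw [← q.preimage_iSup, hcov]; rfl
  have hinjI : ∀ (U U' : S.affineOpens) (a b : Γ(Z, h ⁻¹ᵁ U.1 ⊓ h ⁻¹ᵁ U'.1)),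
      q.app _ a = q.app _ b → a = b := by
    intro U U' a b hab
    refine Z.sheaf.eq_of_locally_eq'
      (fun V : {V : S.affineOpens // V.1 ≤ U.1 ⊓ U'.1} => h ⁻¹ᵁ V.1.1) _
      (fun V => homOfLE (h.preimage_mono V.2)) ?_ _ _ fun V => (key V.1).1 ?_
    · intro x hx
      obtain ⟨V, hV, hxV, hVle⟩ := exists_isAffineOpen_mem_and_subset (U := U.1 ⊓ U'.1) (x := h x) hx
      exact Opens.mem_iSup.2 ⟨⟨⟨V, hV⟩, hVle⟩, hxV⟩
    · exact (hnat _ _ _ a).trans ((congrArg _ hab).trans (hnat _ _ _ b).symm)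
  refine ⟨fun a b hab => ?_, fun z => ?_⟩
  · refine Z.sheaf.eq_of_locally_eq' (fun U : S.affineOpens => h ⁻¹ᵁ U.1) ⊤
      (fun U => homOfLE le_top) hcov.ge _ _ fun U => (key U).1 ?_
    exact (hnat _ _ _ a).trans ((congrArg _ hab).trans (hnat _ _ _ b).symm)
  · choose s hs using fun U : S.affineOpens =>
      (key U).2 (W.presheaf.map (homOfLE le_top).op z)
    have hcomp : TopCat.Presheaf.IsCompatible Z.presheaf (fun U : S.affineOpens => h ⁻¹ᵁ U.1) s := by
      intro U U'
      refine hinjI U U' _ _ ?_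
      refine (hnat _ _ inf_le_left _).trans (Eq.trans ?_ (hnat _ _ inf_le_right _).symm)
      rw [hs, hs, ← CommRingCat.comp_apply, ← CommRingCat.comp_apply, ← W.presheaf.map_comp,
        ← W.presheaf.map_comp]
      rfl
    obtain ⟨a, ha, -⟩ := Z.sheaf.existsUnique_gluing' (fun U : S.affineOpens => h ⁻¹ᵁ U.1) ⊤
      (fun U => homOfLE le_top) hcov.ge s hcomp
    refine ⟨a, W.sheaf.eq_of_locally_eq' (fun U : S.affineOpens => q ⁻¹ᵁ (h ⁻¹ᵁ U.1)) ⊤
      (fun U => homOfLE le_top) hcovW.ge _ _ fun U => ?_⟩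
    exact (hnat _ _ le_top a).symm.trans ((congrArg _ (ha U)).trans (hs U))

/-- The characteristic function of a clopen set. -/
theorem exists_idempotent {W : Scheme.{u}} {C : Set W} (hC : IsClopen C) :
    ∃ e : Γ(W, ⊤), IsIdempotentElem e ∧ (W.basicOpen e : Set W) = C := by
  let U : Bool → W.Opens := fun b => bif b then ⟨C, hC.2⟩ else ⟨Cᶜ, hC.1.isOpen_compl⟩
  have hcov : ⊤ ≤ ⨆ b, U b := fun x _ => Opens.mem_iSup.2 (by
    by_cases hx : x ∈ C
    · exact ⟨true, hx⟩
    · exact ⟨false, hx⟩)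
  let s : ∀ b, Γ(W, U b) := fun b => bif b then 1 else 0
  have hcomp : TopCat.Presheaf.IsCompatible W.presheaf U s := by
    intro b b'
    cases b <;> cases b'
    · rfl
    · have hbot : U false ⊓ U true = ⊥ := Opens.ext (Set.compl_inter_self C)
      have : Subsingleton Γ(W, U false ⊓ U true) := by rw [hbot]; infer_instance
      exact Subsingleton.elim _ _
    · have hbot : U true ⊓ U false = ⊥ := Opens.ext (Set.inter_compl_self C)
      have : Subsingleton Γ(W, U true ⊓ U false) := by rw [hbot]; infer_instance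
      exact Subsingleton.elim _ _
    · rfl
  obtain ⟨e, he, heu⟩ := W.sheaf.existsUnique_gluing' U ⊤ (fun b => homOfLE le_top) hcov s hcomp
  have he1 : W.presheaf.map (homOfLE le_top : U true ⟶ ⊤).op e = 1 := he true
  have he0 : W.presheaf.map (homOfLE le_top : U false ⟶ ⊤).op e = 0 := he false
  refine ⟨e, ?_, ?_⟩
  · refine heu (e * e) fun b => ?_
    refine Eq.trans (map_mul (W.presheaf.map (homOfLE le_top : U b ⟶ ⊤).op).hom e e) ?_
    cases b
    · exact (congrArg₂ (· * ·) he0 he0).trans (mul_zero _)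
    · exact (congrArg₂ (· * ·) he1 he1).trans (mul_one _)
  · ext x
    simp only [SetLike.mem_coe, W.mem_basicOpen_top]
    by_cases hx : x ∈ C
    · refine iff_of_true ?_ hx
      rw [← TopCat.Presheaf.germ_res_apply W.presheaf (homOfLE le_top : U true ⟶ ⊤) x hx, he1,
        map_one]
      exact isUnit_one
    · refine iff_of_false ?_ hx
      rw [← TopCat.Presheaf.germ_res_apply W.presheaf (homOfLE le_top : U false ⟶ ⊤) x hx, he0,
        map_zero]
      exact not_isUnit_zero

theorem isClopen_basicOpen {Z : Scheme.{u}} {e : Γ(Z, ⊤)} (he : IsIdempotentElem e) :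
    IsClopen (Z.basicOpen e : Set Z) := by
  have : (Z.basicOpen e : Set Z) = (Z.basicOpen (1 - e) : Set Z)ᶜ := by
    ext x
    simp only [Set.mem_compl_iff, SetLike.mem_coe, Z.mem_basicOpen_top, map_sub, map_one]
    constructor
    · intro hu hu'
      have : Z.presheaf.germ ⊤ x trivial (e * (1 - e)) = 0 := by
        rw [he.mul_one_sub_self, map_zero]
      rw [map_mul, map_sub, map_one] at this
      exact not_isUnit_zero (this ▸ hu.mul hu')
    · intro hu
      exact (IsLocalRing.isUnit_or_isUnit_one_sub_self _).resolve_right hu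
  refine ⟨?_, (Z.basicOpen e).2⟩
  rw [this]
  exact (Z.basicOpen _).2.isClosed_compl

/-- Clopens of the pullback come from the cover. -/
theorem exists_clopen_of_app_bijective (H : IsPullback p q f h) [IsFinite h] [Etale h]
    (hf : ∀ U : S.Opens, Function.Bijective (f.app U)) (C : Set W) (hC : IsClopen C) :
    ∃ D : Set Z, IsClopen D ∧ q ⁻¹' D = C := by
  obtain ⟨e, he, heC⟩ := exists_idempotent hC
  obtain ⟨hi, hs⟩ := bijective_appTop H hf
  obtain ⟨d, rfl⟩ := hs e
  refine ⟨Z.basicOpen d, isClopen_basicOpen (hi (by rw [map_mul, he])), ?_⟩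
  rw [← heC]
  exact congrArg ((↑) : W.Opens → Set W) (q.preimage_basicOpen d)

/-- A morphism with `𝒪_S = f_* 𝒪_X` meets every nonempty clopen. -/
theorem inter_range_nonempty_of_app_bijective (f : X ⟶ S)
    (hf : ∀ U : S.Opens, Function.Bijective (f.app U)) {T : Set S} (hT : IsClopen T)
    (hne : T.Nonempty) : (T ∩ Set.range f).Nonempty := by
  by_contra hh
  rw [Set.not_nonempty_iff_eq_empty] at hh
  let U : S.Opens := ⟨T, hT.2⟩
  have hbot : f ⁻¹ᵁ U = ⊥ := Opens.ext (Set.eq_empty_iff_forall_notMem.2 fun x hx =>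
    Set.eq_empty_iff_forall_notMem.1 hh (f x) ⟨hx, x, rfl⟩)
  have : Subsingleton Γ(X, f ⁻¹ᵁ U) := by rw [hbot]; infer_instance
  have : Subsingleton Γ(S, U) := (hf U).1.subsingleton
  obtain ⟨x, hx⟩ := hne
  apply one_ne_zero (α := S.presheaf.stalk x)
  rw [← map_one (S.presheaf.germ U x hx).hom, Subsingleton.elim (1 : Γ(S, U)) 0, map_zero]

end Groth.Agent.FEtEq25
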