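import Groth.Agent.Lib.FEtEq25.Points

/-!
# Fullness of restriction from clopen subsets
-/

universe u

open CategoryTheory CategoryTheory.Limits AlgebraicGeometry TopologicalSpace Opposite

noncomputable section

namespace Groth.Agent.FEtEq25

variable {X : Scheme.{u}}

/-- A clopen subscheme of a cover is a cover. -/
def openCover' (W : FEt.Cat X) (D : W.left.Opens) (hD : IsClosed (D : Set W.left)) : FEt.Cat X :=
  MorphismProperty.Over.mk ⊤ (D.ι ≫ W.hom) (by
    have : IsClosedImmersion D.ι := IsClosedImmersion.of_isPreimmersion _ (by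
      rw [Scheme.Opens.range_ι]; exact hD)
    exact ⟨inferInstanceAs (IsFinite (D.ι ≫ W.hom)), inferInstanceAs (Etale (D.ι ≫ W.hom))⟩)

/-- The inclusion of a clopen subscheme. -/
def openCoverι (W : FEt.Cat X) (D : W.left.Opens) (hD : IsClosed (D : Set W.left)) :
    openCover' W D hD ⟶ W :=
  MorphismProperty.Over.homMk D.ι rfl

/-- A map bijective on fibres over a set meeting all nonempty clopens is an isomorphism. -/
theorem isIso_of_bijective_fibres_on {Y Z : FEt.Cat X} (φ : Y ⟶ Z) (T : Set X)
    (hT : ∀ S : Set X, IsClopen S → S.Nonempty → (S ∩ T).Nonempty)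
    (h : ∀ x ∈ T, ∃ (K : Type u) (_ : Field K) (_ : IsAlgClosed K)
      (ξ : Spec (CommRingCat.of K) ⟶ X), ξ (IsLocalRing.closedPoint K) = x ∧
        Function.Bijective ((FEt.fiber ξ).map φ)) : IsIso φ := by
  have hsurj : Surjective φ.left := by
    refine ⟨fun z => ?_⟩
    by_contra hz
    have hc : IsClopen ((Set.range φ.left)ᶜ) := by
      rw [← Set.image_univ]; exact (isClopen_image φ.left isClopen_univ).compl
    obtain ⟨x, ⟨z', hz', rfl⟩, hxT⟩ := hT _ (isClopen_image Z.hom hc) ⟨_, z, hz, rfl⟩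
    obtain ⟨K, _, _, ξ, hξ, hbij⟩ := h _ hxT
    obtain ⟨s, hs, hspt⟩ := exists_fiber_point ξ Z.hom z' hξ.symm
    obtain ⟨⟨t, ht⟩, hts⟩ := hbij.2 ⟨s, hs⟩
    have h2 : t ≫ φ.left = s := congrArg Subtype.val hts
    refine hz' ⟨t (IsLocalRing.closedPoint K), ?_⟩
    rw [← Scheme.Hom.comp_apply, h2, hspt]
  have hinj : UniversallyInjective φ.left := by
    rw [UniversallyInjective.iff_diagonal]
    refine ⟨fun p => ?_⟩
    by_contra hp
    have hC : IsClopen ((Set.range (pullback.diagonal φ.left))ᶜ) :=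
      (IsClopen.compl ⟨(pullback.diagonal φ.left).isClosedEmbedding.isClosed_range,
        (pullback.diagonal φ.left).isOpenEmbedding.isOpen_range⟩)
    obtain ⟨x, ⟨p', hp', rfl⟩, hxT⟩ :=
      hT _ (isClopen_image (pullback.fst φ.left φ.left ≫ Y.hom) hC) ⟨_, p, hp, rfl⟩
    obtain ⟨K, _, _, ξ, hξ, hbij⟩ := h _ hxT
    obtain ⟨s, hs, hspt⟩ :=
      exists_fiber_point ξ (pullback.fst φ.left φ.left ≫ Y.hom) p' hξ.symm
    have hcond : (s ≫ pullback.fst φ.left φ.left) ≫ φ.left =
        (s ≫ pullback.snd φ.left φ.left) ≫ φ.left := by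
      simp only [Category.assoc, pullback.condition]
    have hs1 : (s ≫ pullback.fst φ.left φ.left) ≫ Y.hom = ξ := by rw [Category.assoc]; exact hs
    have hs2 : (s ≫ pullback.snd φ.left φ.left) ≫ Y.hom = ξ := by
      rw [← hs1, ← w φ]
      simp only [Category.assoc, pullback.condition_assoc]
    have heq : s ≫ pullback.fst φ.left φ.left = s ≫ pullback.snd φ.left φ.left :=
      congrArg Subtype.val (hbij.1 (a₁ := ⟨_, hs1⟩) (a₂ := ⟨_, hs2⟩) (Subtype.ext hcond))
    have hfac : s = (s ≫ pullback.fst φ.left φ.left) ≫ pullback.diagonal φ.left := by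
      apply pullback.hom_ext
      · simp
      · simp [← heq]
    refine hp' ⟨(s ≫ pullback.fst φ.left φ.left) (IsLocalRing.closedPoint K), ?_⟩
    rw [← Scheme.Hom.comp_apply, ← hfac, hspt]
  have := Groth.Agent.S3694.result φ.left
  have : IsIso φ.left :=
    (isIso_iff_isOpenImmersion_and_surjective _).2 ⟨inferInstance, inferInstance⟩
  let e : Y ≅ Z := MorphismProperty.Over.isoMk (asIso φ.left) (w φ)
  have he : e.hom = φ := by ext; rfl
  rw [← he]; infer_instance

/-- The graph of a map between restricted covers descends. -/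
theorem exists_desc_hom {X' : Scheme.{u}} (f : X' ⟶ X)
    (hT : ∀ S : Set X, IsClopen S → S.Nonempty → (S ∩ Set.range f).Nonempty)
    (hclop : ∀ {Z : Scheme.{u}} (h : Z ⟶ X), FEt.prop h → ∀ C : Set ↥(pullback h f), IsClopen C →
      ∃ D : Set Z, IsClopen D ∧ pullback.fst h f ⁻¹' D = C)
    {U V : Scheme.{u}} (u : U ⟶ X) (v : V ⟶ X) [IsFinite u] [Etale u] [IsFinite v] [Etale v]
    (mL : pullback u f ⟶ pullback v f) (hmL : mL ≫ pullback.snd v f = pullback.snd u f) :
    ∃ m : U ⟶ V, m ≫ v = u ∧ pullback.fst u f ≫ m = mL ≫ pullback.fst v f := by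
  let W : FEt.Cat X := MorphismProperty.Over.mk ⊤ (pullback.fst u v ≫ u)
    ⟨inferInstance, inferInstance⟩
  let oU : FEt.Cat X := MorphismProperty.Over.mk ⊤ u ⟨inferInstance, inferInstance⟩
  let p1 : W ⟶ oU := MorphismProperty.Over.homMk (pullback.fst u v) rfl
  let w0 := pullback.fst u v ≫ u
  -- the graph
  have hcond : pullback.fst u f ≫ u = (mL ≫ pullback.fst v f) ≫ v := by
    rw [Category.assoc, pullback.condition, pullback.condition, reassoc_of% hmL]
  let gr : pullback u f ⟶ pullback u v := pullback.lift (pullback.fst u f) (mL ≫ pullback.fst v f) hcond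
  let g : pullback u f ⟶ pullback w0 f :=
    pullback.lift gr (pullback.snd u f) (by
      rw [← pullback.condition]
      simp only [w0, gr, pullback.lift_fst_assoc])
  let q : pullback w0 f ⟶ pullback u f :=
    pullback.lift (pullback.fst w0 f ≫ pullback.fst u v) (pullback.snd w0 f) (by
      rw [Category.assoc]; exact pullback.condition)
  have hgfst : g ≫ pullback.fst w0 f = gr := pullback.lift_fst _ _ _
  have hgsnd : g ≫ pullback.snd w0 f = pullback.snd u f := pullback.lift_snd _ _ _
  have hgq : g ≫ q = 𝟙 _ := by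
    apply pullback.hom_ext
    · rw [Category.assoc, pullback.lift_fst, reassoc_of% hgfst, pullback.lift_fst, Category.id_comp]
    · rw [Category.assoc, pullback.lift_snd, hgsnd, Category.id_comp]
  have hgprop : FEt.prop g := by
    refine MorphismProperty.of_postcomp FEt.prop (W' := FEt.prop) g (pullback.snd w0 f)
      ⟨inferInstance, inferInstance⟩ ?_
    rw [hgsnd]
    exact ⟨inferInstance, inferInstance⟩
  have : IsFinite g := hgprop.1
  have : Etale g := hgprop.2
  have : Mono g := mono_of_mono_fac hgq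
  have : IsOpenImmersion g :=
    have : UniversallyInjective g := inferInstance
    Groth.Agent.S3694.result g
  obtain ⟨D, hD, hDC⟩ := hclop w0 ⟨inferInstance, inferInstance⟩ (Set.range g)
    ⟨g.isClosedMap.isClosed_range, g.isOpenEmbedding.isOpen_range⟩
  let Do : (pullback u v).Opens := ⟨D, hD.2⟩
  let oD : FEt.Cat X := openCover' W Do hD.1
  let r : oD ⟶ oU := openCoverι W Do hD.1 ≫ p1
  have hrl : r.left = Do.ι ≫ pullback.fst u v := rfl
  have : IsIso r := by
    refine isIso_of_bijective_fibres_on r _ hT fun x hx => ?_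
    obtain ⟨x', rfl⟩ := hx
    obtain ⟨K, _, _, g0, hg0⟩ := exists_geomPoint x'
    refine ⟨K, inferInstance, inferInstance, g0 ≫ f, by rw [Scheme.Hom.comp_apply, hg0], ?_, ?_⟩
    · -- injective
      have lifts : ∀ (c : Spec (CommRingCat.of K) ⟶ (Do : Scheme.{u}))
          (_ : (c ≫ Do.ι) ≫ w0 = g0 ≫ f),
          ∃ e, e ≫ gr = c ≫ Do.ι ∧ e ≫ pullback.fst u f = (c ≫ Do.ι) ≫ pullback.fst u v ∧
            e ≫ pullback.snd u f = g0 := by
        intro c hc
        let P : Spec (CommRingCat.of K) ⟶ pullback w0 f := pullback.lift (c ≫ Do.ι) g0 hc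
        have hP : Set.range P ⊆ Set.range g := by
          rintro _ ⟨y, rfl⟩
          rw [← hDC, Set.mem_preimage, ← Scheme.Hom.comp_apply]
          simp only [P, pullback.lift_fst, Scheme.Hom.comp_apply]
          exact (c y).2
        refine ⟨IsOpenImmersion.lift g P hP, ?_, ?_, ?_⟩
        · rw [← hgfst, IsOpenImmersion.lift_fac_assoc]
          exact pullback.lift_fst _ _ _
        · have : pullback.fst u f = g ≫ pullback.fst w0 f ≫ pullback.fst u v := by
            rw [reassoc_of% hgfst, pullback.lift_fst]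
          rw [this, IsOpenImmersion.lift_fac_assoc, pullback.lift_fst_assoc]
        · rw [← hgsnd, IsOpenImmersion.lift_fac_assoc]
          exact pullback.lift_snd _ _ _
      rintro ⟨d, hd⟩ ⟨d', hd'⟩ hdd'
      have hr : (d ≫ Do.ι) ≫ pullback.fst u v = (d' ≫ Do.ι) ≫ pullback.fst u v := by
        simp only [Category.assoc]
        exact congrArg Subtype.val hdd'
      obtain ⟨e, he1, he2, he3⟩ := lifts d ((Category.assoc _ _ _).trans hd)
      obtain ⟨e', he1', he2', he3'⟩ := lifts d' ((Category.assoc _ _ _).trans hd')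
      have hee : e = e' := by
        apply pullback.hom_ext
        · exact he2.trans (hr.trans he2'.symm)
        · exact he3.trans he3'.symm
      refine Subtype.ext ?_
      show d = d'
      exact (cancel_mono Do.ι).1 (he1.symm.trans ((congrArg (· ≫ gr) hee).trans he1'))
    · -- surjective
      rintro ⟨s, hs⟩
      let s' : Spec (CommRingCat.of K) ⟶ pullback u f := pullback.lift s g0 hs
      have hP : Set.range (s' ≫ gr) ⊆ Set.range Do.ι := by
        rintro _ ⟨y, rfl⟩
        rw [Scheme.Opens.range_ι, Scheme.Hom.comp_apply, ← hgfst, Scheme.Hom.comp_apply]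
        have : g (s' y) ∈ Set.range g := ⟨_, rfl⟩
        rw [← hDC] at this
        exact this
      let c := IsOpenImmersion.lift Do.ι (s' ≫ gr) hP
      have hc : c ≫ Do.ι ≫ pullback.fst u v = s := by
        rw [IsOpenImmersion.lift_fac_assoc, Category.assoc]
        exact (congrArg (s' ≫ ·) (pullback.lift_fst _ _ _)).trans (pullback.lift_fst _ _ _)
      refine ⟨⟨c, ?_⟩, Subtype.ext hc⟩
      show c ≫ Do.ι ≫ pullback.fst u v ≫ u = g0 ≫ f
      rw [reassoc_of% hc]
      exact hs
  have hk : Set.range gr ⊆ Set.range Do.ι := by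
    rintro _ ⟨y, rfl⟩
    rw [Scheme.Opens.range_ι, ← hgfst, Scheme.Hom.comp_apply]
    have : g y ∈ Set.range g := ⟨_, rfl⟩
    rw [← hDC] at this
    exact this
  let k := IsOpenImmersion.lift Do.ι gr hk
  let ri : U ⟶ (Do : Scheme.{u}) := (inv r).left
  have hri : (Do.ι ≫ pullback.fst u v) ≫ ri = 𝟙 _ :=
    congrArg (fun z => z.left) (IsIso.hom_inv_id r)
  have hinv : pullback.fst u f ≫ ri = k := by
    have : pullback.fst u f = k ≫ Do.ι ≫ pullback.fst u v := by
      rw [IsOpenImmersion.lift_fac_assoc]; exact (pullback.lift_fst _ _ _).symm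
    rw [this]
    simp only [Category.assoc] at hri ⊢
    rw [hri, Category.comp_id]
  refine ⟨ri ≫ Do.ι ≫ pullback.snd u v, ?_, ?_⟩
  · have hw : ri ≫ Do.ι ≫ pullback.fst u v ≫ u = u := w (inv r)
    simp only [Category.assoc, ← pullback.condition]
    exact hw
  · rw [reassoc_of% hinv, IsOpenImmersion.lift_fac_assoc]
    exact pullback.lift_snd _ _ _

/-- Restriction is full when clopen subsets of restricted covers come from the base. -/
theorem full_restrict {X' : Scheme.{u}} (f : X' ⟶ X)
    (hT : ∀ S : Set X, IsClopen S → S.Nonempty → (S ∩ Set.range f).Nonempty)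
    (hclop : ∀ {Z : Scheme.{u}} (h : Z ⟶ X), FEt.prop h → ∀ C : Set ↥(pullback h f), IsClopen C →
      ∃ D : Set Z, IsClopen D ∧ pullback.fst h f ⁻¹' D = C) :
    (FEt.restrict f).Full where
  map_surjective {U V} m := by
    obtain ⟨n, hn1, hn2⟩ := exists_desc_hom f hT hclop U.hom V.hom m.left (w m)
    refine ⟨MorphismProperty.Over.homMk n hn1, ?_⟩
    ext : 1
    apply pullback.hom_ext
    · exact (pullback.lift_fst _ _ _).trans hn2
    · exact (pullback.lift_snd _ _ _).trans (w m).symm

/-- A connected geometric fibre makes clopens saturated. -/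
theorem fibre_subset_or_disjoint {X' : Scheme.{u}} (f : X' ⟶ X) {Z : Scheme.{u}} (g : Z ⟶ X)
    {K : Type u} [Field K] (s : Spec (CommRingCat.of K) ⟶ Z)
    [PreconnectedSpace ↥(pullback f (s ≫ g))] {C : Set ↥(pullback g f)} (hC : IsClopen C)
    {p p' : ↥(pullback g f)} (hp : pullback.fst g f p = s (IsLocalRing.closedPoint K))
    (hp' : pullback.fst g f p' = s (IsLocalRing.closedPoint K)) (hpC : p ∈ C) : p' ∈ C := by
  let Φ : pullback f (s ≫ g) ⟶ pullback g f :=
    pullback.lift (pullback.snd _ _ ≫ s) (pullback.fst _ _) (by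
      rw [Category.assoc, pullback.condition])
  have hpb : IsPullback (pullback.snd f (s ≫ g)) Φ s (pullback.fst g f) := by
    refine IsPullback.of_bot ?_ ?_ (IsPullback.of_hasPullback g f)
    · rw [pullback.lift_snd]
      exact (IsPullback.of_hasPullback f (s ≫ g)).flip
    · exact (pullback.lift_fst _ _ _).symm
  have hrange : ∀ p, pullback.fst g f p = s (IsLocalRing.closedPoint K) → p ∈ Set.range Φ := by
    intro p hp
    obtain ⟨q, -, hq⟩ := Scheme.exists_preimage_of_isPullback hpb _ p hp.symm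
    exact ⟨q, hq⟩
  obtain ⟨q, rfl⟩ := hrange p hp
  obtain ⟨q', rfl⟩ := hrange p' hp'
  have := (isClopen_iff.1 (hC.preimage Φ.continuous)).resolve_left
    (fun h => (Set.eq_empty_iff_forall_notMem.1 h) q hpC)
  exact (Set.eq_univ_iff_forall.1 this) q'

end Groth.Agent.FEtEq25
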