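import Groth.Agent.S1575
import Groth.Agent.Lib.CurveCoh17.Integral
import Groth.Agent.Lib.ModM1.Coh
import Groth.Agent.Lib.Depth.BaseChange
import Groth.Agent.Lib.SMT.CMBasic
import Groth.Agent.Lib.FEtEq25.GlobalSections
import Groth.Agent.Lib.FEtEq25.Graph

/-!
# Sections and finite étale covers across depth two
-/

universe u

open CategoryTheory CategoryTheory.Limits AlgebraicGeometry TopologicalSpace Opposite TensorProduct

noncomputable section

namespace Groth.Agent.FEtEq25

/-- Depth does not drop along flat local homomorphisms. -/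
theorem depth_le_of_flat_local {A B : Type u} [CommRing A] [IsNoetherianRing A] [IsLocalRing A]
    [CommRing B] [IsLocalRing B] (f : A →+* B) [IsLocalHom f] (hf : f.Flat) :
    LocCoh.depth A A ≤ LocCoh.depth B B := by
  algebraize [f]
  have : IsLocalHom (algebraMap A B) := ‹_›
  refine le_trans (DepthLib.idealDepth_le_baseChange (A := A) (B := B) (M := A)
    (I := IsLocalRing.maximalIdeal A)) ?_
  rw [DepthLib.idealDepth_congr (AlgebraTensorModule.rid A B B)]
  exact DepthLib.idealDepth_mono (((IsLocalRing.local_hom_TFAE (algebraMap A B)).out 0 2).1 ‹_›)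

variable {Z : Scheme.{u}} [IsLocallyNoetherian Z]

/-- Sections extend uniquely across depth two. -/
theorem bijective_restrict (U : Z.Opens)
    (h : ∀ z : Z, z ∉ U → (2 : ℕ∞) ≤ LocCoh.depth (Z.presheaf.stalk z) (Z.presheaf.stalk z))
    (V : Z.Opens) : Function.Bijective (Z.presheaf.map (homOfLE (inf_le_left : V ⊓ U ≤ V)).op) := by
  have hst : ∀ z : Z, z ∉ U →
      2 ≤ LocCoh.depth (Z.presheaf.stalk z) ((Coh.structureModule Z).presheaf.stalk z) := by
    intro z hz
    obtain ⟨e⟩ := CurveCoh17.nonempty_stalk_equiv_structureModule (X := Z) z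
    refine le_trans (h z hz) (le_of_eq ?_)
    exact DepthLib.idealDepth_congr (LinearEquiv.funUnique (Fin 1) _ _ |>.symm.trans e.symm)
  exact Groth.Agent.S1575.result Z (Coh.structureModule Z) (M1.isCoh_structureModule Z) U hst V

/-- Global sections extend uniquely across depth two. -/
theorem bijective_appTop_of_depth_two {W : Scheme.{u}} (j : W ⟶ Z) [IsOpenImmersion j]
    (h : ∀ z : Z, z ∉ Set.range j → (2 : ℕ∞) ≤ LocCoh.depth (Z.presheaf.stalk z) (Z.presheaf.stalk z)) :
    Function.Bijective j.appTop := by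
  have h1 : Function.Bijective j.opensRange.ι.appTop := by
    rw [Scheme.Opens.ι_appTop]
    have hb := bijective_restrict j.opensRange h ⊤
    have heq : j.opensRange.ι ''ᵁ ⊤ = ⊤ ⊓ j.opensRange := by
      rw [Scheme.Hom.image_top_eq_opensRange, Scheme.Opens.opensRange_ι, top_inf_eq]
    have hfac : Z.presheaf.map (homOfLE (le_top : j.opensRange.ι ''ᵁ ⊤ ≤ ⊤)).op =
        Z.presheaf.map (homOfLE (inf_le_left : ⊤ ⊓ j.opensRange ≤ ⊤)).op ≫
          Z.presheaf.map (eqToHom heq).op := by
      rw [← Functor.map_comp]; rfl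
    rw [hfac]
    exact (ConcreteCategory.bijective_of_isIso (Z.presheaf.map (eqToHom heq).op)).comp hb
  have h2 : j = j.isoOpensRange.hom ≫ j.opensRange.ι := by simp
  rw [h2, Scheme.Hom.comp_appTop]
  haveI : IsIso j.isoOpensRange.hom.appTop :=
    inferInstanceAs (IsIso (Scheme.Γ.map j.isoOpensRange.hom.op))
  exact (ConcreteCategory.bijective_of_isIso j.isoOpensRange.hom.appTop).comp h1

/-- Clopens of an open subscheme with complement of depth two extend. -/
theorem exists_clopen_of_depth_two {W : Scheme.{u}} (j : W ⟶ Z) [IsOpenImmersion j]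
    (h : ∀ z : Z, z ∉ Set.range j → (2 : ℕ∞) ≤ LocCoh.depth (Z.presheaf.stalk z) (Z.presheaf.stalk z))
    (C : Set W) (hC : IsClopen C) : ∃ D : Set Z, IsClopen D ∧ j ⁻¹' D = C := by
  obtain ⟨e, he, heC⟩ := exists_idempotent hC
  have hbij := bijective_appTop_of_depth_two j h
  obtain ⟨d, rfl⟩ := hbij.2 e
  refine ⟨Z.basicOpen d, isClopen_basicOpen (hbij.1 (by rw [map_mul, he])), ?_⟩
  rw [← heC]
  exact congrArg ((↑) : W.Opens → Set W) (j.preimage_basicOpen d)

/-- Restriction to a dense open with complement of depth two is fully faithful. -/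
theorem fullFaithful_of_depth_two {X : Scheme.{u}} [IsLocallyNoetherian X] (U : X.Opens)
    (hU : Dense (U : Set X))
    (h : ∀ x : X, x ∉ U → (2 : ℕ∞) ≤ LocCoh.depth (X.presheaf.stalk x) (X.presheaf.stalk x)) :
    (FEt.restrict U.ι).Full ∧ (FEt.restrict U.ι).Faithful := by
  have hT : ∀ S : Set X, IsClopen S → S.Nonempty → (S ∩ Set.range U.ι).Nonempty := by
    intro S hS hne
    rw [Scheme.Opens.range_ι]
    exact hU.inter_open_nonempty S hS.2 hne
  refine ⟨full_restrict _ hT ?_, faithful_restrict _ hT⟩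
  intro Z g hg C hC
  have : IsFinite g := hg.1
  have : Etale g := hg.2
  have : IsLocallyNoetherian Z := LocallyOfFiniteType.isLocallyNoetherian g
  refine exists_clopen_of_depth_two (pullback.fst g U.ι) (fun z hz => ?_) C hC
  rw [Scheme.Pullback.range_fst, Set.mem_preimage, Scheme.Opens.range_ι] at hz
  exact le_trans (h _ hz) (depth_le_of_flat_local (g.stalkMap z).hom (Flat.stalkMap g z))

end Groth.Agent.FEtEq25
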