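import Groth.Agent.Lib.FEtEq25.Coeq
import Groth.Agent.S3694

/-!
# Finite (co)limits in the category of finite étale covers, and their geometric fibres
-/

universe u

open CategoryTheory CategoryTheory.Limits AlgebraicGeometry TopologicalSpace Opposite

noncomputable section

namespace Groth.Agent.FEtEq25

instance prop_hasOfPostcomp : FEt.prop.{u}.HasOfPostcompProperty FEt.prop.{u} := by
  rw [MorphismProperty.hasOfPostcompProperty_iff_le_diagonal]
  intro X Y f ⟨hf, he⟩
  have := hf; have := he
  exact ⟨inferInstanceAs (IsFinite (pullback.diagonal f)),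
    inferInstanceAs (Etale (pullback.diagonal f))⟩

variable {X : Scheme.{u}}

instance isFinite_hom (Y : FEt.Cat X) : IsFinite Y.hom := Y.prop.1

instance etale_hom (Y : FEt.Cat X) : Etale Y.hom := Y.prop.2

@[reassoc]
theorem w {Y Z : FEt.Cat X} (φ : Y ⟶ Z) : φ.left ≫ Z.hom = Y.hom := MorphismProperty.Over.w φ

theorem prop_left {Y Z : FEt.Cat X} (φ : Y ⟶ Z) : FEt.prop φ.left :=
  MorphismProperty.of_postcomp FEt.prop φ.left Z.hom Z.prop (by rw [w]; exact Y.prop)

instance isFinite_left {Y Z : FEt.Cat X} (φ : Y ⟶ Z) : IsFinite φ.left := (prop_left φ).1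

instance etale_left {Y Z : FEt.Cat X} (φ : Y ⟶ Z) : Etale φ.left := (prop_left φ).2

theorem hasFiniteLimits (X : Scheme.{u}) : HasFiniteLimits (FEt.Cat X) := inferInstance

section Colimits

/-- The sum of two covers. -/
def sum (Y Z : FEt.Cat X) : FEt.Cat X :=
  MorphismProperty.Over.mk ⊤ (coprod.desc Y.hom Z.hom)
    ⟨HasAffineProperty.coprodDesc_affineAnd (P := @IsFinite) (Q := RingHom.Finite)
        (by
          rw [HasAffineProperty.affineAnd_iff _ RingHom.finite_respectsIso
            RingHom.finite_localizationPreserves.away RingHom.finite_ofLocalizationSpan]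
          simp [isFinite_iff])
        RingHom.finite_respectsIso
        (fun {R S T} _ _ _ f g hf hg => by
          algebraize [f, g]
          exact RingHom.finite_algebraMap.2 (inferInstanceAs (Module.Finite R (S × T))))
        _ _ Y.prop.1 Z.prop.1,
      by
        rw [IsZariskiLocalAtSource.iff_of_openCover (P := @Etale) (coprodOpenCover.{_, u} _ _)]
        rintro (_ | _)
        · show Etale ((coprod.inl : Y.left ⟶ Y.left ⨿ Z.left) ≫ coprod.desc Y.hom Z.hom)
          exact (coprod.inl_desc Y.hom Z.hom).symm ▸ Y.prop.2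
        · show Etale ((coprod.inr : Z.left ⟶ Y.left ⨿ Z.left) ≫ coprod.desc Y.hom Z.hom)
          exact (coprod.inr_desc Y.hom Z.hom).symm ▸ Z.prop.2⟩

/-- The inclusion of the left summand. -/
def sumInl (Y Z : FEt.Cat X) : Y ⟶ sum Y Z :=
  MorphismProperty.Over.homMk coprod.inl (coprod.inl_desc _ _)

/-- The inclusion of the right summand. -/
def sumInr (Y Z : FEt.Cat X) : Z ⟶ sum Y Z :=
  MorphismProperty.Over.homMk coprod.inr (coprod.inr_desc _ _)

/-- The sum is a coproduct. -/
def sumIsColimit (Y Z : FEt.Cat X) : IsColimit (BinaryCofan.mk (sumInl Y Z) (sumInr Y Z)) :=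
  BinaryCofan.isColimitMk
    (fun s => MorphismProperty.Over.homMk (coprod.desc s.inl.left s.inr.left) (by
      apply coprod.hom_ext
      · exact (coprod.inl_desc_assoc s.inl.left s.inr.left _).trans
          ((w s.inl).trans (coprod.inl_desc Y.hom Z.hom).symm)
      · exact (coprod.inr_desc_assoc s.inl.left s.inr.left _).trans
          ((w s.inr).trans (coprod.inr_desc Y.hom Z.hom).symm)))
    (fun s => by ext; exact coprod.inl_desc _ _)
    (fun s => by ext; exact coprod.inr_desc _ _)
    (fun s m h1 h2 => by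
      ext
      apply coprod.hom_ext
      · exact (congrArg (fun q => q.left) h1).trans (coprod.inl_desc (X := Y.left) (Y := Z.left) s.inl.left s.inr.left).symm
      · exact (congrArg (fun q => q.left) h2).trans (coprod.inr_desc (X := Y.left) (Y := Z.left) s.inl.left s.inr.left).symm)

instance hasBinaryCoproducts : HasBinaryCoproducts (FEt.Cat X) :=
  have (Y Z : FEt.Cat X) : HasColimit (pair Y Z) := ⟨⟨_, sumIsColimit Y Z⟩⟩
  hasBinaryCoproducts_of_hasColimit_pair _

/-- The empty cover. -/
def empty (X : Scheme.{u}) : FEt.Cat X :=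
  MorphismProperty.Over.mk ⊤ (Scheme.emptyTo X) ⟨inferInstance, inferInstance⟩

/-- The empty cover is initial. -/
def emptyIsInitial (X : Scheme.{u}) : IsInitial (empty X) :=
  IsInitial.ofUniqueHom (fun Y => MorphismProperty.Over.homMk (Scheme.emptyTo Y.left)
      (AlgebraicGeometry.emptyIsInitial.hom_ext _ _))
    fun Y m => by ext : 1; exact AlgebraicGeometry.emptyIsInitial.hom_ext _ _

instance hasInitial : HasInitial (FEt.Cat X) := (emptyIsInitial X).hasInitial

instance hasFiniteCoproducts : HasFiniteCoproducts (FEt.Cat X) :=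
  hasFiniteCoproducts_of_has_binary_and_initial

variable {Y Z : FEt.Cat X} (a b : Y ⟶ Z)

/-- The coequalizer of two maps. -/
def coeq : FEt.Cat X :=
  MorphismProperty.Over.mk ⊤ _ (PreAlg.π_prop a.left b.left (w a) (w b))

/-- The projection to the coequalizer. -/
def coeqProj : Z ⟶ coeq a b :=
  MorphismProperty.Over.homMk (PreAlg.proj a.left b.left (w a) (w b))
    (PreAlg.proj_π a.left b.left (w a) (w b))

theorem coeq_condition : a ≫ coeqProj a b = b ≫ coeqProj a b := by
  ext : 1
  exact PreAlg.comp_proj a.left b.left (w a) (w b)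

/-- The coequalizer property. -/
def coeqIsColimit : IsColimit (Cofork.ofπ (coeqProj a b) (coeq_condition a b)) :=
  Cofork.IsColimit.mk _
    (fun s => MorphismProperty.Over.homMk
      (PreAlg.desc a.left b.left (w a) (w b) s.pt.hom s.π.left (w s.π)
        (congrArg (fun q => q.left) s.condition))
      (PreAlg.desc_π a.left b.left (w a) (w b) _ _ _ _))
    (fun s => by
      ext : 1
      exact PreAlg.proj_desc a.left b.left (w a) (w b) _ _ _ _)
    (fun s m h => by
      ext : 1
      refine PreAlg.hom_ext_proj a.left b.left (w a) (w b) s.pt.hom (w m)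
        (PreAlg.desc_π a.left b.left (w a) (w b) _ _ _ _) ?_
      exact (congrArg (fun q => q.left) h).trans
        (PreAlg.proj_desc a.left b.left (w a) (w b) s.pt.hom s.π.left (w s.π)
          (congrArg (fun q => q.left) s.condition)).symm)

instance hasCoequalizers : HasCoequalizers (FEt.Cat X) :=
  have {Y Z : FEt.Cat X} {a b : Y ⟶ Z} : HasColimit (parallelPair a b) := ⟨⟨_, coeqIsColimit a b⟩⟩
  hasCoequalizers_of_hasColimit_parallelPair _

instance hasFiniteColimits : HasFiniteColimits (FEt.Cat X) :=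
  hasFiniteColimits_of_hasCoequalizers_and_finite_coproducts

end Colimits

section Fibres

variable {Ω : Type u} [Field Ω] (ξ : Spec (CommRingCat.of Ω) ⟶ X)

@[simp]
theorem fiber_map_coe {Y Z : FEt.Cat X} (φ : Y ⟶ Z) (s : FEt.fiberObj ξ Y) :
    ((FEt.fiber ξ).map φ s).1 = s.1 ≫ φ.left := rfl

theorem finite_points {V : Scheme.{u}} (g : V ⟶ X) [IsFinite g] :
    Finite {s : Spec (CommRingCat.of Ω) ⟶ V // s ≫ g = ξ} := by
  let pt : ↥(Spec (CommRingCat.of Ω)) := IsLocalRing.closedPoint Ω
  have : Subsingleton ↥(Spec (CommRingCat.of Ω)) :=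
    inferInstanceAs (Subsingleton (PrimeSpectrum Ω))
  obtain ⟨_, ⟨U, hU, rfl⟩, hxU, -⟩ := X.isBasis_affineOpens.exists_subset_of_mem_open
    (Set.mem_univ (ξ pt)) isOpen_univ
  obtain ⟨φ, hφ⟩ : ∃ φ : Γ(X, U) ⟶ CommRingCat.of Ω, Spec.map φ ≫ hU.fromSpec = ξ := by
    have hrange : Set.range ξ ⊆ Set.range hU.fromSpec := by
      rintro _ ⟨x, rfl⟩
      rw [IsAffineOpen.range_fromSpec, Subsingleton.elim x pt]
      exact hxU
    exact ⟨Spec.preimage (IsOpenImmersion.lift _ _ hrange),
      by rw [Spec.map_preimage]; exact IsOpenImmersion.lift_fac ..⟩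
  letI := ((PreAlg.dirImage g).str.app (op U)).hom.toAlgebra
  letI := φ.hom.toAlgebra
  have : Module.Finite Γ(X, U) ((PreAlg.dirImage g).presheaf.obj (op U)) := g.finite_app U hU
  let T := TensorProduct Γ(X, U) Ω ((PreAlg.dirImage g).presheaf.obj (op U))
  have : Finite ((PreAlg.dirImage g).presheaf.obj (op U) →ₐ[Γ(X, U)] Ω) :=
    Finite.of_injective (β := T →ₐ[Ω] Ω)
      (fun χ => Algebra.TensorProduct.lift (Algebra.ofId Ω Ω) χ fun _ _ => Commute.all _ _)
      (fun χ χ' h => AlgHom.ext fun x => by simpa using AlgHom.congr_fun h (1 ⊗ₜ x))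
  refine Finite.of_surjective
    (fun χ : (PreAlg.dirImage g).presheaf.obj (op U) →ₐ[Γ(X, U)] Ω =>
      (⟨Spec.map (CommRingCat.ofHom χ.toRingHom) ≫ (PreAlg.dirImage g).ι U hU ≫ PreAlg.κ g, by
        simp only [Category.assoc, PreAlg.κ_π, PreAlg.ι_π]
        rw [← Spec.map_comp_assoc, ← hφ]
        congr 2
        ext r
        exact χ.commutes r⟩ : {s : Spec (CommRingCat.of Ω) ⟶ V // s ≫ g = ξ})) fun s => ?_
  obtain ⟨e, he, hs⟩ := (PreAlg.dirImage g).exists_lift U hU (s.1 ≫ inv (PreAlg.κ g)) φ (by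
    rw [Category.assoc, hφ, ← PreAlg.κ_π g, IsIso.inv_hom_id_assoc, s.2])
  refine ⟨{ e.hom with commutes' := fun r => ConcreteCategory.congr_hom he r }, Subtype.ext ?_⟩
  show Spec.map e ≫ (PreAlg.dirImage g).ι U hU ≫ PreAlg.κ g = s.1
  rw [← Category.assoc, hs, Category.assoc, IsIso.inv_hom_id, Category.comp_id]

/-- Geometric fibres are finite. -/
theorem finite_fiberObj (Y : FEt.Cat X) : Finite (FEt.fiberObj ξ Y) := finite_points ξ Y.hom

theorem exists_inl_or_inr {U V : Scheme.{u}} (s : Spec (CommRingCat.of Ω) ⟶ U ⨿ V) :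
    (∃ s', s' ≫ coprod.inl = s) ∨ (∃ s', s' ≫ coprod.inr = s) := by
  have : Subsingleton ↥(Spec (CommRingCat.of Ω)) :=
    inferInstanceAs (Subsingleton (PrimeSpectrum Ω))
  obtain ⟨x | x, hx⟩ := (coprodMk U V).surjective (s (IsLocalRing.closedPoint Ω))
  · left
    refine ⟨IsOpenImmersion.lift coprod.inl s ?_, IsOpenImmersion.lift_fac ..⟩
    rintro _ ⟨y, rfl⟩
    exact ⟨x, by rw [Subsingleton.elim y (IsLocalRing.closedPoint Ω), ← hx]; simp⟩
  · right
    refine ⟨IsOpenImmersion.lift coprod.inr s ?_, IsOpenImmersion.lift_fac ..⟩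
    rintro _ ⟨y, rfl⟩
    exact ⟨x, by rw [Subsingleton.elim y (IsLocalRing.closedPoint Ω), ← hx]; simp⟩

theorem preservesBinaryCoproduct_fiber (Y Z : FEt.Cat X) :
    PreservesColimit (pair Y Z) (FEt.fiber ξ) := by
  refine preservesColimit_of_preserves_colimit_cocone (sumIsColimit Y Z) ?_
  refine (isColimitMapCoconeBinaryCofanEquiv _ _ _).symm ?_
  refine Nonempty.some ((Types.binaryCofan_isColimit_iff _).2 ⟨?_, ?_, ?_⟩)
  · intro s t h
    apply Subtype.ext
    exact (cancel_mono (coprod.inl : Y.left ⟶ Y.left ⨿ Z.left)).1 (congrArg Subtype.val h)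
  · intro s t h
    apply Subtype.ext
    exact (cancel_mono (coprod.inr : Z.left ⟶ Y.left ⨿ Z.left)).1 (congrArg Subtype.val h)
  · constructor
    · rw [Set.disjoint_iff]
      rintro _ ⟨⟨s, rfl⟩, ⟨t, ht⟩⟩
      have h := congrArg Subtype.val ht
      change t.1 ≫ coprod.inr = s.1 ≫ coprod.inl at h
      have hp : (t.1 ≫ coprod.inr) (IsLocalRing.closedPoint Ω) =
          (s.1 ≫ coprod.inl) (IsLocalRing.closedPoint Ω) := by rw [h]
      simp only [Scheme.Hom.comp_apply] at hp
      have h3 : coprodMk Y.left Z.left (.inr (t.1 (IsLocalRing.closedPoint Ω))) =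
          coprodMk Y.left Z.left (.inl (s.1 (IsLocalRing.closedPoint Ω))) := by simpa using hp
      exact absurd ((coprodMk Y.left Z.left).injective h3) (by simp)
    · rw [codisjoint_iff, eq_top_iff]
      rintro ⟨s, hs⟩ -
      rcases exists_inl_or_inr s with ⟨s', rfl⟩ | ⟨s', rfl⟩
      · exact Or.inl ⟨⟨s', ((congrArg (s' ≫ ·) (coprod.inl_desc Y.hom Z.hom)).symm.trans
          ((Category.assoc _ _ _).symm.trans hs))⟩, rfl⟩
      · exact Or.inr ⟨⟨s', ((congrArg (s' ≫ ·) (coprod.inr_desc Y.hom Z.hom)).symm.trans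
          ((Category.assoc _ _ _).symm.trans hs))⟩, rfl⟩

theorem isEmpty_fiber_empty : IsEmpty (FEt.fiberObj ξ (empty X)) :=
  ⟨fun s => isEmptyElim (show ↥(∅ : Scheme.{u}) from s.1 (IsLocalRing.closedPoint Ω))⟩

theorem preservesInitial_fiber : PreservesColimit (Functor.empty.{0} (FEt.Cat X)) (FEt.fiber ξ) := by
  refine preservesColimit_of_preserves_colimit_cocone (emptyIsInitial X) ?_
  refine (isColimitMapCoconeEmptyCoconeEquiv _ _).symm ?_
  exact ((Types.initial_iff_empty _).2 (isEmpty_fiber_empty ξ)).some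

variable [IsAlgClosed Ω]

theorem surjective_fiber_coeqProj {Y Z : FEt.Cat X} (a b : Y ⟶ Z) :
    Function.Surjective ((FEt.fiber ξ).map (coeqProj a b)) := fun s => by
  obtain ⟨z, hz, hzs⟩ := (PreAlg.points a.left b.left (w a) (w b) ξ).1 s.1 s.2
  exact ⟨⟨z, hz⟩, Subtype.ext hzs⟩

theorem preservesCoequalizer_fiber {Y Z : FEt.Cat X} (a b : Y ⟶ Z) :
    PreservesColimit (parallelPair a b) (FEt.fiber ξ) := by
  refine preservesColimit_of_preserves_colimit_cocone (coeqIsColimit a b) ?_
  refine (isColimitMapCoconeCoforkEquiv _ _).symm ?_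
  refine Cofork.IsColimit.mk _
    (fun c => TypeCat.ofHom fun x => c.π (Function.surjInv (surjective_fiber_coeqProj ξ a b) x))
    (fun c => ?_) (fun c m h => ?_)
  · refine ConcreteCategory.hom_ext _ _ fun z => ?_
    show c.π (Function.surjInv (surjective_fiber_coeqProj ξ a b) _) = c.π z
    set z' := Function.surjInv (surjective_fiber_coeqProj ξ a b)
      ((FEt.fiber ξ).map (coeqProj a b) z) with hz'
    have h : (FEt.fiber ξ).map (coeqProj a b) z' = (FEt.fiber ξ).map (coeqProj a b) z :=
      Function.surjInv_eq (surjective_fiber_coeqProj ξ a b) _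
    have hgen := (PreAlg.points a.left b.left (w a) (w b) ξ).2 z'.1 z.1 z'.2 z.2
      (congrArg Subtype.val h)
    suffices ∀ p q, Relation.EqvGen
        (fun w w' => PreAlg.fibreRel (K := Ω) a.left b.left w w') p q →
        (p ≫ Z.hom = ξ ↔ q ≫ Z.hom = ξ) ∧
          ∀ (hp : p ≫ Z.hom = ξ) (hq : q ≫ Z.hom = ξ), c.π ⟨p, hp⟩ = c.π ⟨q, hq⟩ from
      (this _ _ hgen).2 z'.2 z.2
    intro p q hpq
    induction hpq with
    | rel p q hr =>
      obtain ⟨y, rfl, rfl⟩ := hr
      refine ⟨by rw [Category.assoc, Category.assoc, w a, w b], fun hp hq => ?_⟩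
      have hy : y ≫ Y.hom = ξ := by rwa [Category.assoc, w a] at hp
      exact ConcreteCategory.congr_hom c.condition ⟨y, hy⟩
    | refl p => exact ⟨Iff.rfl, fun _ _ => rfl⟩
    | symm p q _ ih => exact ⟨ih.1.symm, fun hp hq => (ih.2 hq hp).symm⟩
    | trans p q r _ _ ih1 ih2 =>
      exact ⟨ih1.1.trans ih2.1,
        fun hp hr => (ih1.2 hp (ih1.1.1 hp)).trans (ih2.2 (ih1.1.1 hp) hr)⟩
  · refine ConcreteCategory.hom_ext _ _ fun x => ?_
    show m x = c.π _
    have := ConcreteCategory.congr_hom h (Function.surjInv (surjective_fiber_coeqProj ξ a b) x)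
    refine Eq.trans ?_ this
    exact congrArg m (Function.surjInv_eq (surjective_fiber_coeqProj ξ a b) x).symm

instance preservesFiniteColimits_fiber : PreservesFiniteColimits (FEt.fiber ξ) := by
  have : PreservesColimitsOfShape (Discrete WalkingPair) (FEt.fiber ξ) :=
    ⟨fun {K} => by
      have := preservesBinaryCoproduct_fiber ξ (K.obj ⟨.left⟩) (K.obj ⟨.right⟩)
      exact preservesColimit_of_iso_diagram _ (diagramIsoPair K).symm⟩
  have := preservesInitial_fiber ξ
  have : PreservesColimitsOfShape (Discrete PEmpty.{1}) (FEt.fiber ξ) :=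
    preservesColimitsOfShape_pempty_of_preservesInitial _
  have : PreservesFiniteCoproducts (FEt.fiber ξ) :=
    ⟨fun n => PreservesFiniteCoproducts.of_preserves_binary_and_initial _ (Fin n)⟩
  have : PreservesColimitsOfShape WalkingParallelPair (FEt.fiber ξ) :=
    ⟨fun {K} => by
      have := preservesCoequalizer_fiber ξ (K.map WalkingParallelPairHom.left)
        (K.map WalkingParallelPairHom.right)
      exact preservesColimit_of_iso_diagram _ (diagramIsoParallelPair K).symm⟩
  exact preservesFiniteColimits_of_preservesCoequalizers_and_finiteCoproducts _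

end Fibres

/-- A map of finite étale covers bijective on all geometric fibres is an isomorphism. -/
theorem isIso_of_bijective_fibres {Y Z : FEt.Cat X} (φ : Y ⟶ Z)
    (h : ∀ (K : Type u) [Field K] [IsAlgClosed K] (ξ : Spec (CommRingCat.of K) ⟶ X),
      Function.Bijective ((FEt.fiber ξ).map φ)) : IsIso φ := by
  -- a geometric point over any point
  have hgeom : ∀ {W : Scheme.{u}} (p : W), ∃ (K : Type u) (_ : Field K) (_ : IsAlgClosed K)
      (g : Spec (CommRingCat.of K) ⟶ W), ∀ x, g x = p := fun {W} p => by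
    refine ⟨AlgebraicClosure (W.residueField p), inferInstance, inferInstance,
      Spec.map (CommRingCat.ofHom (algebraMap (W.residueField p) _)) ≫ W.fromSpecResidueField p,
      fun x => ?_⟩
    rw [Scheme.Hom.comp_apply]
    exact Scheme.fromSpecResidueField_apply p _
  have hsurj : Surjective φ.left := ⟨fun z => by
    obtain ⟨K, _, _, g, hg⟩ := hgeom z
    obtain ⟨y, hy⟩ := (h K (g ≫ Z.hom)).2 ⟨g, rfl⟩
    have h2 : y.1 ≫ φ.left = g := congrArg Subtype.val hy
    refine ⟨y.1 (IsLocalRing.closedPoint K), ?_⟩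
    rw [← Scheme.Hom.comp_apply, h2, hg]⟩
  have hinj : UniversallyInjective φ.left := by
    rw [UniversallyInjective.iff_diagonal]
    refine ⟨fun p => ?_⟩
    obtain ⟨K, _, _, g, hg⟩ := hgeom p
    have hcond : (g ≫ pullback.fst φ.left φ.left) ≫ φ.left =
        (g ≫ pullback.snd φ.left φ.left) ≫ φ.left := by
      simp only [Category.assoc, pullback.condition]
    let ξ := (g ≫ pullback.fst φ.left φ.left) ≫ Y.hom
    have hov : (g ≫ pullback.snd φ.left φ.left) ≫ Y.hom = ξ := by
      simp only [ξ, ← w φ, Category.assoc, pullback.condition_assoc]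
    have heq : g ≫ pullback.fst φ.left φ.left = g ≫ pullback.snd φ.left φ.left :=
      congrArg Subtype.val ((h K ξ).1 (a₁ := ⟨_, rfl⟩) (a₂ := ⟨_, hov⟩) (Subtype.ext hcond))
    have hfac : g = (g ≫ pullback.fst φ.left φ.left) ≫ pullback.diagonal φ.left := by
      apply pullback.hom_ext
      · simp
      · simp [← heq]
    refine ⟨(g ≫ pullback.fst φ.left φ.left) (IsLocalRing.closedPoint K), ?_⟩
    rw [← Scheme.Hom.comp_apply, ← hfac, hg]
  have := Groth.Agent.S3694.result φ.left
  have : IsIso φ.left :=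
    (isIso_iff_isOpenImmersion_and_surjective _).2 ⟨inferInstance, inferInstance⟩
  let e : Y ≅ Z := MorphismProperty.Over.isoMk (asIso φ.left) (w φ)
  have he : e.hom = φ := by ext; rfl
  rw [← he]; infer_instance

/-- Restriction followed by a fibre functor is a fibre functor. -/
def restrictFiberIso {X' : Scheme.{u}} (f : X' ⟶ X) {K : Type u} [Field K]
    (ξ : Spec (CommRingCat.of K) ⟶ X') :
    FEt.restrict f ⋙ FEt.fiber ξ ≅ FEt.fiber (ξ ≫ f) :=
  NatIso.ofComponents (fun Y => Equiv.toIso
    { toFun := fun s => ⟨s.1 ≫ pullback.fst Y.hom f, by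
        refine (Category.assoc _ _ _).trans ?_
        refine (congrArg (s.1 ≫ ·) pullback.condition).trans ?_
        refine (Category.assoc _ _ _).symm.trans ?_
        exact congrArg (· ≫ f) s.2⟩
      invFun := fun t => ⟨pullback.lift t.1 ξ t.2, pullback.lift_snd _ _ _⟩
      left_inv := fun s => Subtype.ext (pullback.hom_ext (pullback.lift_fst _ _ _)
        ((pullback.lift_snd _ _ _).trans s.2.symm))
      right_inv := fun t => Subtype.ext (pullback.lift_fst _ _ _) })
    (fun {Y Z} φ => ConcreteCategory.hom_ext _ _ fun s => Subtype.ext (by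
      show (s.1 ≫ ((FEt.restrict f).map φ).left) ≫ pullback.fst Z.hom f =
        (s.1 ≫ pullback.fst Y.hom f) ≫ φ.left
      simp only [Category.assoc]
      exact congrArg (s.1 ≫ ·) (pullback.lift_fst _ _ _)))

theorem preservesFiniteColimits_restrict {X' : Scheme.{u}} (f : X' ⟶ X) :
    PreservesFiniteColimits (FEt.restrict f) := by
  refine ⟨fun J _ _ => ⟨fun {D} => ?_⟩⟩
  refine preservesColimit_of_preserves_colimit_cocone (colimit.isColimit D) ?_
  let c := (FEt.restrict f).mapCocone (colimit.cocone D)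
  let d := (colimit.isColimit (D ⋙ FEt.restrict f)).desc c
  have : IsIso d := by
    refine isIso_of_bijective_fibres d fun K _ _ ξ => ?_
    have h1 : IsColimit ((FEt.fiber ξ).mapCocone (colimit.cocone (D ⋙ FEt.restrict f))) :=
      isColimitOfPreserves _ (colimit.isColimit _)
    have : PreservesFiniteColimits (FEt.restrict f ⋙ FEt.fiber ξ) :=
      preservesFiniteColimits_of_natIso (restrictFiberIso f ξ).symm
    have h2 : IsColimit ((FEt.fiber ξ).mapCocone c) :=
      isColimitOfPreserves (FEt.restrict f ⋙ FEt.fiber ξ) (colimit.isColimit D)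
    have hmor : (FEt.fiber ξ).map d = (h1.coconePointUniqueUpToIso h2).hom := by
      refine h1.hom_ext fun j => ?_
      rw [h1.comp_coconePointUniqueUpToIso_hom]
      show (FEt.fiber ξ).map _ ≫ (FEt.fiber ξ).map d = (FEt.fiber ξ).map _
      rw [← Functor.map_comp, IsColimit.fac]
    rw [← isIso_iff_bijective, hmor]
    infer_instance
  exact IsColimit.ofPointIso (colimit.isColimit (D ⋙ FEt.restrict f)) (i := this)

theorem preservesFiniteLimits_restrict {X' : Scheme.{u}} (f : X' ⟶ X) :
    PreservesFiniteLimits (FEt.restrict f) :=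
  inferInstanceAs (PreservesFiniteLimits (MorphismProperty.Over.pullback FEt.prop.{u} ⊤ f))

end Groth.Agent.FEtEq25
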