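import Mathlib.AlgebraicGeometry.ZariskisMainTheorem
import Groth.Agent.S1304
import Groth.Agent.Lib.EtStalk.TopInv
import Groth.Prelude.Def_FEt

/-!
# Finiteness descends along thickenings of the base
-/

universe u

open CategoryTheory CategoryTheory.Limits AlgebraicGeometry TopologicalSpace

noncomputable section

namespace Groth.Agent.FEtEq25

variable {X X' V : Scheme.{u}} (i : X ⟶ X') [IsClosedImmersion i] [Surjective i] (v : V ⟶ X')

/-- An étale morphism which is finite over a thickening is finite. -/
theorem isFinite_of_pullback_thickening [Etale v] [IsFinite (pullback.snd v i)] : IsFinite v := by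
  have hP : MoreMor.IsThickening (pullback.fst v i) := ⟨inferInstance, inferInstance⟩
  have : UniversallyClosed v :=
    (Groth.Agent.S1304.result (pullback.fst v i) i (pullback.snd v i) v hP ⟨inferInstance, inferInstance⟩
      pullback.condition).1 inferInstance
  have hsep : IsSeparated v := by
    let W := pullback v v
    let j := pullback.fst (pullback.fst v v ≫ v) i
    let a : pullback (pullback.fst v v ≫ v) i ⟶ pullback v i :=
      pullback.lift (j ≫ pullback.fst v v) (pullback.snd _ i) (by
        rw [Category.assoc]; exact pullback.condition)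
    let b : pullback (pullback.fst v v ≫ v) i ⟶ pullback v i :=
      pullback.lift (j ≫ pullback.snd v v) (pullback.snd _ i) (by
        rw [Category.assoc, ← pullback.condition]; exact pullback.condition)
    let k : pullback v i ⟶ pullback (pullback.fst v v ≫ v) i :=
      pullback.lift (pullback.fst v i ≫ pullback.diagonal v) (pullback.snd v i) (by
        rw [Category.assoc, pullback.diagonal_fst_assoc]; exact pullback.condition)
    have hak : ∀ (π : pullback v v ⟶ V), pullback.diagonal v ≫ π = 𝟙 _ →
        k ≫ j ≫ π = pullback.fst v i := fun π hπ => by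
      rw [← Category.assoc, show k ≫ j = pullback.fst v i ≫ pullback.diagonal v from pullback.lift_fst _ _ _,
        Category.assoc, hπ, Category.comp_id]
    have hka : k ≫ a = 𝟙 _ := by
      apply pullback.hom_ext
      · rw [Category.id_comp, Category.assoc, show a ≫ pullback.fst v i = j ≫ pullback.fst v v from
          pullback.lift_fst _ _ _]
        exact hak _ (pullback.diagonal_fst _)
      · rw [Category.id_comp, Category.assoc, show a ≫ pullback.snd v i = pullback.snd _ i from
          pullback.lift_snd _ _ _]
        exact pullback.lift_snd _ _ _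
    have : IsSeparated a := by
      let c : pullback (pullback.fst v v ≫ v) i ⟶ pullback (pullback.snd v i) (pullback.snd v i) :=
        pullback.lift a b ((pullback.lift_snd _ _ _).trans (pullback.lift_snd _ _ _).symm)
      have hca : c ≫ pullback.fst _ _ = a := pullback.lift_fst _ _ _
      have hcb : c ≫ pullback.snd _ _ = b := pullback.lift_snd _ _ _
      have : Mono c := ⟨fun {T} p p' h => by
        have ha : p ≫ a = p' ≫ a := by rw [← hca, reassoc_of% h]
        have hb : p ≫ b = p' ≫ b := by rw [← hcb, reassoc_of% h]
        have ha1 : a ≫ pullback.fst v i = j ≫ pullback.fst v v := pullback.lift_fst _ _ _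
        have hb1 : b ≫ pullback.fst v i = j ≫ pullback.snd v v := pullback.lift_fst _ _ _
        have ha2 : a ≫ pullback.snd v i = pullback.snd _ i := pullback.lift_snd _ _ _
        apply pullback.hom_ext
        · apply pullback.hom_ext
          · rw [Category.assoc, Category.assoc, ← ha1, reassoc_of% ha]
          · rw [Category.assoc, Category.assoc, ← hb1, reassoc_of% hb]
        · rw [← ha2, reassoc_of% ha]⟩
      have e : a = c ≫ pullback.fst _ _ := (pullback.lift_fst _ _ _).symm
      rw [e]
      infer_instance
    have : IsClosedImmersion (k ≫ a) := by rw [hka]; infer_instance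
    have : IsClosedImmersion k := IsClosedImmersion.of_comp k a
    have hinj : Function.Injective j := j.isClosedEmbedding.injective
    have hj : Function.Surjective j := Surjective.surj
    have hkj : k ≫ j = pullback.fst v i ≫ pullback.diagonal v := pullback.lift_fst _ _ _
    have heq : Set.range (pullback.diagonal v) = j '' Set.range k := by
      ext w
      constructor
      · rintro ⟨x, rfl⟩
        obtain ⟨p, rfl⟩ := (pullback.fst v i).surjective x
        exact ⟨k p, ⟨p, rfl⟩, by
          rw [← Scheme.Hom.comp_apply, hkj, Scheme.Hom.comp_apply]⟩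
      · rintro ⟨_, ⟨p, rfl⟩, rfl⟩
        exact ⟨pullback.fst v i p, by rw [← Scheme.Hom.comp_apply, ← hkj, Scheme.Hom.comp_apply]⟩
    refine ⟨IsClosedImmersion.of_isPreimmersion _ ?_⟩
    rw [heq]
    exact j.isClosedEmbedding.isClosedMap _ k.isClosedEmbedding.isClosed_range
  have : QuasiCompact v := inferInstance
  have : IsProper v := {}
  have : LocallyQuasiFinite v := by
    rw [locallyQuasiFinite_iff_finite_preimage_singleton]
    intro y
    obtain ⟨x, rfl⟩ := i.surjective y
    refine (((pullback.snd v i).finite_preimage_singleton x).image (pullback.fst v i)).subset ?_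
    intro z hz
    obtain ⟨p, rfl⟩ := (pullback.fst v i).surjective z
    refine ⟨p, i.isClosedEmbedding.injective ?_, rfl⟩
    rw [← Scheme.Hom.comp_apply, ← pullback.condition, Scheme.Hom.comp_apply]
    exact hz
  exact IsFinite.of_isProper_of_locallyQuasiFinite v

/-- Finite étale covers lift along thickenings. -/
theorem essSurj_restrict_thickening : (FEt.restrict i).EssSurj := by
  refine ⟨fun U => ?_⟩
  have := EtStalk.isEquivalence_bc i
  have : IsFinite U.hom := U.prop.1
  have : Etale U.hom := U.prop.2
  let U' : X.Etale := MorphismProperty.Over.mk ⊤ U.hom U.prop.2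
  let V' := (EtCoh.bc i).objPreimage U'
  let e : (EtCoh.bc i).obj V' ≅ U' := (EtCoh.bc i).objObjPreimageIso U'
  have : Etale V'.hom := V'.prop
  let eo := (Scheme.Etale.forget X).mapIso e
  let el := (Over.forget X).mapIso eo
  have hw : el.hom ≫ U.hom = pullback.snd V'.hom i := Over.w eo.hom
  have : IsFinite (pullback.snd V'.hom i) :=
    hw ▸ (MorphismProperty.cancel_left_of_respectsIso @IsFinite el.hom U.hom).2 U.prop.1
  have := isFinite_of_pullback_thickening i V'.hom
  refine ⟨MorphismProperty.Over.mk ⊤ V'.hom ⟨this, inferInstance⟩, ⟨?_⟩⟩
  exact MorphismProperty.Over.isoMk el hw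

end Groth.Agent.FEtEq25
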