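import Groth.Agent.Lib.FEtEq25.Points
import Groth.Agent.S0266

/-!
# Finite étale covers of a connected scheme form a Galois category
-/

universe u

open CategoryTheory CategoryTheory.Limits AlgebraicGeometry TopologicalSpace Opposite

noncomputable section

namespace Groth.Agent.FEtEq25

variable {X : Scheme.{u}}

instance mono_left {Y Z : FEt.Cat X} (φ : Y ⟶ Z) [Mono φ] : Mono φ.left := by
  let G := MorphismProperty.Over.forget FEt.prop.{u} ⊤ X
  have : Mono (G.map φ) := G.map_mono φ
  exact (Over.forget X).map_mono (G.map φ)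

theorem exists_summand {Y Z : FEt.Cat X} (i : Y ⟶ Z) [Mono i] :
    ∃ (Z' : FEt.Cat X) (v : Z' ⟶ Z), Nonempty (IsColimit (BinaryCofan.mk i v)) := by
  have : UniversallyInjective i.left := inferInstance
  have : IsClosedImmersion i.left :=
    (IsClosedImmersion.iff_isFinite_and_mono i.left).2 ⟨inferInstance, inferInstance⟩
  have : IsOpenImmersion i.left := Groth.Agent.S3694.result i.left
  let U : Z.left.Opens :=
    ⟨(Set.range i.left)ᶜ, i.left.isClosedEmbedding.isClosed_range.isOpen_compl⟩
  have : IsFinite U.ι := by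
    have : IsClosedImmersion U.ι := IsClosedImmersion.of_isPreimmersion _ (by
      rw [Scheme.Opens.range_ι]
      exact i.left.isOpenEmbedding.isOpen_range.isClosed_compl)
    infer_instance
  let Z' : FEt.Cat X := MorphismProperty.Over.mk ⊤ (U.ι ≫ Z.hom)
    ⟨inferInstanceAs (IsFinite (U.ι ≫ Z.hom)), inferInstanceAs (Etale (U.ι ≫ Z.hom))⟩
  let v : Z' ⟶ Z := MorphismProperty.Over.homMk U.ι rfl
  refine ⟨Z', v, ?_⟩
  have hcompl : IsCompl i.left.opensRange U.ι.opensRange := by
    rw [Scheme.Opens.opensRange_ι, isCompl_iff, disjoint_iff, codisjoint_iff]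
    exact ⟨TopologicalSpace.Opens.ext (by simp [U]), TopologicalSpace.Opens.ext (by simp [U])⟩
  obtain ⟨hc⟩ := nonempty_isColimit_binaryCofanMk_of_isCompl i.left U.ι hcompl
  have hext : ∀ {T : Scheme.{u}} {p q : Z.left ⟶ T}, i.left ≫ p = i.left ≫ q →
      U.ι ≫ p = U.ι ≫ q → p = q := fun h1 h2 => BinaryCofan.IsColimit.hom_ext hc h1 h2
  let ds (s : BinaryCofan Y Z') : Z.left ⟶ s.pt.left :=
    (BinaryCofan.IsColimit.desc' hc s.inl.left s.inr.left).1
  have hdl : ∀ s : BinaryCofan Y Z', i.left ≫ ds s = s.inl.left := fun s =>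
    (BinaryCofan.IsColimit.desc' hc s.inl.left s.inr.left).2.1
  have hdr : ∀ s : BinaryCofan Y Z', U.ι ≫ ds s = s.inr.left := fun s =>
    (BinaryCofan.IsColimit.desc' hc s.inl.left s.inr.left).2.2
  exact ⟨BinaryCofan.isColimitMk
    (fun s => MorphismProperty.Over.homMk (ds s) (hext
      ((Category.assoc _ _ _).symm.trans ((congrArg (· ≫ s.pt.hom) (hdl s)).trans
        ((w s.inl).trans (w i).symm)))
      ((Category.assoc _ _ _).symm.trans ((congrArg (· ≫ s.pt.hom) (hdr s)).trans (w s.inr)))))
    (fun s => by ext : 1; exact hdl s)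
    (fun s => by ext : 1; exact hdr s)
    (fun s m h1 h2 => by
      ext : 1
      exact hext ((congrArg (fun q => q.left) h1).trans (hdl s).symm)
        ((congrArg (fun q => q.left) h2).trans (hdr s).symm))⟩

instance preGaloisCategory (X : Scheme.{u}) : PreGaloisCategory (FEt.Cat X) where
  hasQuotientsByFiniteGroups G _ _ := by
    obtain ⟨G', _, _, ⟨e⟩⟩ := Finite.exists_type_univ_nonempty_mulEquiv.{u, 0} G
    cases nonempty_fintype G'
    exact hasColimitsOfShape_of_equivalence e.toSingleObjEquiv.symm
  monoInducesIsoOnDirectSummand i := exists_summand i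

variable {Ω : Type u} [Field Ω] [IsAlgClosed Ω] (ξ : Spec (CommRingCat.of Ω) ⟶ X)

instance preservesTerminal_fiber :
    PreservesLimitsOfShape (Discrete PEmpty.{1}) (FEt.fiber ξ) := by
  have : PreservesLimit (Functor.empty.{0} (FEt.Cat X)) (FEt.fiber ξ) := by
    refine preservesLimit_of_preserves_limit_cone
      (MorphismProperty.Over.mkIdTerminal FEt.prop.{u} X) ?_
    refine (isLimitMapConeEmptyConeEquiv _ _).symm ?_
    refine ((Types.isTerminalEquivUnique _).symm ?_)
    exact
      { default := ⟨ξ, Category.comp_id _⟩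
        uniq := fun s => Subtype.ext (by
          have := s.2
          exact (Category.comp_id s.1).symm.trans this) }
  exact preservesLimitsOfShape_pempty_of_preservesTerminal _

instance preservesPullbacks_fiber : PreservesLimitsOfShape WalkingCospan (FEt.fiber ξ) := by
  refine ⟨fun {D} => ?_⟩
  have key : ∀ {A B C : FEt.Cat X} (f : A ⟶ C) (g : B ⟶ C),
      PreservesLimit (cospan f g) (FEt.fiber ξ) := by
    intro A B C f g
    refine preservesLimit_of_preserves_limit_cone (pullbackIsPullback f g) ?_
    refine (isLimitMapConePullbackConeEquiv _ pullback.condition).symm ?_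
    have hP : IsPullback (pullback.fst f g).left (pullback.snd f g).left f.left g.left :=
      (IsPullback.of_hasPullback f g).map
        (MorphismProperty.Over.forget FEt.prop.{u} ⊤ X ⋙ Over.forget X)
    refine IsPullback.isLimit (h := ?_)
    rw [Types.isPullback_iff]
    refine ⟨?_, fun x y h => ?_, fun x y h => ?_⟩
    · rw [← Functor.map_comp, pullback.condition, Functor.map_comp]
    · exact Subtype.ext (hP.hom_ext (congrArg Subtype.val h.1) (congrArg Subtype.val h.2))
    · refine ⟨⟨hP.lift x.1 y.1 (congrArg Subtype.val h), ?_⟩, Subtype.ext (hP.lift_fst _ _ _),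
        Subtype.ext (hP.lift_snd _ _ _)⟩
      rw [← w (pullback.fst f g), hP.lift_fst_assoc]
      exact x.2
  have := key (D.map WalkingCospan.Hom.inl) (D.map WalkingCospan.Hom.inr)
  exact preservesLimit_of_iso_diagram _ (diagramIsoCospan D).symm

/-- The fibre functor with values in finite types. -/
def fiberFin : FEt.Cat X ⥤ FintypeCat.{u} :=
  ObjectProperty.lift _ (FEt.fiber ξ) fun Y => finite_fiberObj ξ Y

/-- It refines the fibre functor. -/
def fiberFinIso : fiberFin ξ ⋙ FintypeCat.incl ≅ FEt.fiber ξ := Iso.refl _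

instance : PreservesFiniteLimits (FEt.fiber ξ) :=
  preservesFiniteLimits_of_preservesTerminal_and_pullbacks _

instance preservesFiniteLimits_fiberFin : PreservesFiniteLimits (fiberFin ξ) := by
  refine ⟨fun J _ _ => ?_⟩
  have : PreservesLimitsOfShape J (fiberFin ξ ⋙ FintypeCat.incl) :=
    inferInstanceAs (PreservesLimitsOfShape J (FEt.fiber ξ))
  exact preservesLimitsOfShape_of_reflects_of_preserves (fiberFin ξ) FintypeCat.incl

instance preservesFiniteColimits_fiberFin : PreservesFiniteColimits (fiberFin ξ) := by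
  refine ⟨fun J _ _ => ?_⟩
  have : PreservesColimitsOfShape J (fiberFin ξ ⋙ FintypeCat.incl) :=
    inferInstanceAs (PreservesColimitsOfShape J (FEt.fiber ξ))
  exact preservesColimitsOfShape_of_reflects_of_preserves (fiberFin ξ) FintypeCat.incl

theorem fiberFunctor [PreconnectedSpace X] : PreGaloisCategory.FiberFunctor (fiberFin ξ) where
  preservesEpis := preservesEpimorphisms_of_preservesColimitsOfShape _
  preservesQuotientsByFiniteGroups G _ _ := by
    obtain ⟨G', _, _, ⟨e⟩⟩ := Finite.exists_type_univ_nonempty_mulEquiv.{u, 0} G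
    cases nonempty_fintype G'
    exact preservesColimitsOfShape_of_equiv e.toSingleObjEquiv.symm (fiberFin ξ)
  reflectsIsos := ⟨fun {Y Z} φ _ => isIso_of_bijective_fibre ξ φ (by
    rw [← isIso_iff_bijective]
    exact (FintypeCat.incl.map_isIso ((fiberFin ξ).map φ) : _))⟩

theorem nonempty_fiberFin_iso [PreconnectedSpace X] {Ω' : Type u} [Field Ω'] [IsAlgClosed Ω']
    (ξ' : Spec (CommRingCat.of Ω') ⟶ X) : Nonempty (fiberFin ξ ≅ fiberFin ξ') := by
  have := fiberFunctor ξ
  have := fiberFunctor ξ'
  have : GaloisCategory (FEt.Cat X) := { hasFiberFunctor := ⟨fiberFin ξ', ⟨fiberFunctor ξ'⟩⟩ }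
  exact Groth.Agent.S0266.result (fiberFin ξ') (fiberFin ξ)

end Groth.Agent.FEtEq25
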