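import Groth.Agent.Lib.FEtEq25.Flat
import Groth.Agent.Lib.Disc25.FibreEtale

/-!
# The equalizer of two maps of finite étale algebras
-/

open TensorProduct

universe u

namespace Groth.Agent.FEtEq25

variable {A C D : Type u} [CommRing A] [CommRing C] [CommRing D] [Algebra A C] [Algebra A D]
  (u v : C →ₐ[A] D)

theorem mem_equalizer_iff (x : C) : x ∈ AlgHom.equalizer u v ↔ diffMap u v x = 0 := by
  simp [diffMap, sub_eq_zero, AlgHom.mem_equalizer]

variable [Module.Finite A C] [Algebra.Etale A C] [Module.Finite A D] [Algebra.Etale A D]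

/-- A linear projection onto the equalizer. -/
theorem exists_proj : ∃ (r : D →ₗ[A] C) (π : C →ₗ[A] AlgHom.equalizer u v),
    (∀ x, (π x : C) = x - r (diffMap u v x)) ∧
      π ∘ₗ (AlgHom.equalizer u v).val.toLinearMap = LinearMap.id := by
  obtain ⟨r, hr⟩ := exists_genInverse u v
  have hmem : ∀ x, x - r (diffMap u v x) ∈ AlgHom.equalizer u v := fun x => by
    rw [mem_equalizer_iff, map_sub, sub_eq_zero]
    exact (LinearMap.congr_fun hr x).symm
  refine ⟨r, (LinearMap.id - r ∘ₗ diffMap u v).codRestrict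
    (Subalgebra.toSubmodule (AlgHom.equalizer u v)) hmem, fun x => rfl, ?_⟩
  ext ⟨x, hx⟩
  show x - r (diffMap u v x) = x
  rw [(mem_equalizer_iff u v x).1 hx, map_zero, sub_zero]

instance projective_equalizer : Module.Projective A (AlgHom.equalizer u v) := by
  obtain ⟨r, π, -, h⟩ := exists_proj u v
  have : Module.FinitePresentation A C :=
    Module.FinitePresentation.of_finite_of_finitePresentation A C
  have : Module.Projective A C := Module.Flat.projective_of_finitePresentation
  exact .of_split (AlgHom.equalizer u v).val.toLinearMap π h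

instance finite_equalizer : Module.Finite A (AlgHom.equalizer u v) := by
  obtain ⟨r, π, -, h⟩ := exists_proj u v
  exact Module.Finite.of_surjective π fun y => ⟨y.1, LinearMap.congr_fun h y⟩

theorem baseChange_val_injective (R : Type u) [CommRing R] [Algebra A R] :
    Function.Injective
      (Algebra.TensorProduct.map (AlgHom.id R R) (AlgHom.equalizer u v).val) := by
  obtain ⟨r, π, -, h⟩ := exists_proj u v
  intro x y hxy
  have := congrArg (π.baseChange R) hxy
  have hc : ∀ z, (π.baseChange R) (Algebra.TensorProduct.map (AlgHom.id R R)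
      (AlgHom.equalizer u v).val z) = z := fun z => by
    induction z with
    | zero => simp
    | tmul a e =>
      rw [Algebra.TensorProduct.map_tmul, LinearMap.baseChange_tmul]
      exact congrArg (a ⊗ₜ ·) (LinearMap.congr_fun h e)
    | add x y hx hy => rw [map_add, map_add, hx, hy]
  rwa [hc, hc] at this

/-- The equalizer commutes with base change. -/
theorem exists_baseChange_val_eq (R : Type u) [CommRing R] [Algebra A R] (x : R ⊗[A] C)
    (hx : Algebra.TensorProduct.map (AlgHom.id R R) u x =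
      Algebra.TensorProduct.map (AlgHom.id R R) v x) :
    ∃ y, Algebra.TensorProduct.map (AlgHom.id R R) (AlgHom.equalizer u v).val y = x := by
  obtain ⟨r, π, hπ, -⟩ := exists_proj u v
  refine ⟨π.baseChange R x, ?_⟩
  have hw : (diffMap u v).baseChange R x = 0 := by
    rw [diffMap, LinearMap.baseChange_sub, LinearMap.sub_apply, sub_eq_zero]
    exact hx
  have hc : ∀ z, Algebra.TensorProduct.map (AlgHom.id R R) (AlgHom.equalizer u v).val
      (π.baseChange R z) = z - r.baseChange R ((diffMap u v).baseChange R z) := fun z => by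
    induction z with
    | zero => simp
    | tmul a e =>
      rw [LinearMap.baseChange_tmul, Algebra.TensorProduct.map_tmul, LinearMap.baseChange_tmul,
        LinearMap.baseChange_tmul, ← TensorProduct.tmul_sub]
      exact congrArg (a ⊗ₜ ·) (hπ e)
    | add x y hx hy => simp only [map_add, hx, hy]; abel
  rw [hc, hw, map_zero, sub_zero]

instance etale_equalizer : Algebra.Etale A (AlgHom.equalizer u v) := by
  refine Disc25.etale_of_isReduced_geometricFibres fun K _ _ _ => ?_
  obtain ⟨n, ⟨e⟩⟩ := Algebra.IsFiniteSplit.nonempty_algEquiv_fun K (K ⊗[A] C)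
  have : IsReduced (K ⊗[A] C) := isReduced_of_injective e e.injective
  exact isReduced_of_injective _ (baseChange_val_injective u v K)

section Points

variable (Ω : Type u) [Field Ω] [IsAlgClosed Ω] [Algebra A Ω]

/-- Geometric points of the equalizer lift. -/
theorem surjective_restrict :
    Function.Surjective fun χ : C →ₐ[A] Ω => χ.comp (AlgHom.equalizer u v).val := by
  intro e
  let p := RingHom.ker e.toRingHom
  have : p.IsPrime := RingHom.ker_isPrime _
  have hint : Algebra.IsIntegral (AlgHom.equalizer u v) C := ⟨fun x =>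
    (Algebra.IsIntegral.isIntegral (R := A) x).tower_top⟩
  obtain ⟨q, -, hq, hqp⟩ := Ideal.exists_ideal_over_prime_of_isIntegral (S := C) p ⊥ (by
    intro x hx
    rw [Ideal.mem_comap, Ideal.mem_bot] at hx
    have : x = 0 := Subtype.ext hx
    simp [this])
  let ē : (AlgHom.equalizer u v) ⧸ p →+* Ω := Ideal.Quotient.lift p e.toRingHom fun a ha => ha
  have hē : Function.Injective ē := RingHom.lift_injective_of_ker_le_ideal p _ le_rfl
  have : q.LiesOver p := ⟨hqp.symm⟩
  let : Algebra ((AlgHom.equalizer u v) ⧸ p) Ω := ē.toAlgebra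
  have : Module.IsTorsionFree ((AlgHom.equalizer u v) ⧸ p) Ω :=
    Module.isTorsionFree_iff_algebraMap_injective.2 hē
  have : Algebra.IsAlgebraic ((AlgHom.equalizer u v) ⧸ p) (C ⧸ q) :=
    Algebra.IsIntegral.isAlgebraic
  let χ := (IsAlgClosed.lift (R := (AlgHom.equalizer u v) ⧸ p) (S := C ⧸ q) (M := Ω))
  have hχ : ∀ x : AlgHom.equalizer u v, χ (Ideal.Quotient.mk q (x : C)) = e x := fun x =>
    (χ.commutes (Ideal.Quotient.mk p x))
  refine ⟨{ (χ.toRingHom.comp (Ideal.Quotient.mk q)) with commutes' := fun a => ?_ }, ?_⟩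
  · exact (hχ (algebraMap A _ a)).trans (e.commutes a)
  · ext x
    exact hχ x

variable {Ω}

/-- The relation generated by the two maps on geometric points. -/
def pointRel : (C →ₐ[A] Ω) → (C →ₐ[A] Ω) → Prop := fun χ χ' =>
  ∃ ψ : D →ₐ[A] Ω, ψ.comp u = χ ∧ ψ.comp v = χ'

theorem eqvGen_of_restrict_eq {χ₁ χ₂ : C →ₐ[A] Ω}
    (h : χ₁.comp (AlgHom.equalizer u v).val = χ₂.comp (AlgHom.equalizer u v).val) :
    Relation.EqvGen (pointRel u v) χ₁ χ₂ := by
  classical
  obtain ⟨n, ⟨eC⟩⟩ := Algebra.IsFiniteSplit.nonempty_algEquiv_fun Ω (Ω ⊗[A] C)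
  obtain ⟨m, ⟨eD⟩⟩ := Algebra.IsFiniteSplit.nonempty_algEquiv_fun Ω (Ω ⊗[A] D)
  let ext {B : Type u} [CommRing B] [Algebra A B] (χ : B →ₐ[A] Ω) : Ω ⊗[A] B →ₐ[Ω] Ω :=
    Algebra.TensorProduct.lift (Algebra.ofId Ω Ω) χ fun _ _ => Commute.all _ _
  have hext : ∀ {B B' : Type u} [CommRing B] [CommRing B'] [Algebra A B] [Algebra A B']
      (φ : B' →ₐ[A] B) (χ : B →ₐ[A] Ω) (z : Ω ⊗[A] B'),
      ext χ (Algebra.TensorProduct.map (AlgHom.id Ω Ω) φ z) = ext (χ.comp φ) z := by
    intro B B' _ _ _ _ φ χ z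
    induction z with
    | zero => simp
    | tmul a b => simp [ext]
    | add x y hx hy => simp [map_add, hx, hy]
  choose idx hidx using fun χ : C →ₐ[A] Ω =>
    exists_eq_eval ((ext χ).comp eC.symm.toAlgHom)
  have hval : ∀ (χ : C →ₐ[A] Ω) z, ext χ z = eC z (idx χ) := fun χ z => by
    rw [← hidx χ (eC z)]; simp
  let S : Set (Fin n) := idx '' {χ | Relation.EqvGen (pointRel u v) χ₁ χ}
  let x : Ω ⊗[A] C := eC.symm (S.indicator 1)
  have hx : ∀ χ, ext χ x = S.indicator (1 : Fin n → Ω) (idx χ) := fun χ => by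
    rw [hval]; simp [x]
  have hinj : Function.Injective idx := fun χ χ' hh => by
    ext c
    have := hval χ (1 ⊗ₜ c)
    rw [hh, ← hval χ'] at this
    simpa [ext] using this
  have hS : ∀ χ, idx χ ∈ S ↔ Relation.EqvGen (pointRel u v) χ₁ χ := fun χ => by
    simp only [S]; exact hinj.mem_set_image
  obtain ⟨y, hy⟩ := exists_baseChange_val_eq u v Ω x (by
    apply eD.injective
    funext j
    let Ψ : Ω ⊗[A] D →ₐ[Ω] Ω := (Pi.evalAlgHom Ω (fun _ => Ω) j).comp eD.toAlgHom
    let ψ : D →ₐ[A] Ω := (Ψ.restrictScalars A).comp Algebra.TensorProduct.includeRight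
    have hΨ : ∀ z, Ψ z = ext ψ z := fun z => by
      induction z with
      | zero => simp
      | tmul a b =>
        have : a ⊗ₜ[A] b = a • ((1 : Ω) ⊗ₜ[A] b) := by
          rw [TensorProduct.smul_tmul', smul_eq_mul, mul_one]
        rw [this, map_smul, map_smul]
        simp [ext, ψ]
      | add x y hx hy => simp [map_add, hx, hy]
    change Ψ _ = Ψ _
    rw [hΨ, hΨ, hext, hext, hx, hx]
    have hiff : idx (ψ.comp u) ∈ S ↔ idx (ψ.comp v) ∈ S := by
      rw [hS, hS]
      exact ⟨fun hh => hh.trans _ _ _ (.rel _ _ ⟨ψ, rfl, rfl⟩),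
        fun hh => hh.trans _ _ _ (.symm _ _ (.rel _ _ ⟨ψ, rfl, rfl⟩))⟩
    simp only [Set.indicator_apply, hiff, Pi.one_apply])
  have he : ext χ₁ x = ext χ₂ x := by rw [← hy, hext, hext, h]
  rw [hx, hx, Set.indicator_of_mem ((hS χ₁).2 (.refl _))] at he
  by_contra hh
  rw [Set.indicator_of_notMem (fun hm => hh ((hS χ₂).1 hm))] at he
  exact one_ne_zero he

end Points

end Groth.Agent.FEtEq25
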