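import Mathlib
import Groth.Prelude.Def_RelSpec

/-!
# Affine schemes over a base from localizing presheaves of algebras

A light version of the relative spectrum which does not ask for the sheaf condition, and the
comparison with a scheme affine over the base.
-/

universe u

open CategoryTheory CategoryTheory.Limits AlgebraicGeometry TopologicalSpace Opposite

noncomputable section

namespace Groth.Agent.FEtEq25

/-- A presheaf of algebras which localizes on affine opens. -/
structure PreAlg (S : Scheme.{u}) where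
  /-- the rings -/
  presheaf : TopCat.Presheaf CommRingCat.{u} S.carrier
  /-- the structure map -/
  str : S.presheaf ⟶ presheaf
  isQC : RelSpec.IsQC presheaf str

namespace PreAlg

variable {S : Scheme.{u}} (A B C : PreAlg S)

theorem coequifibered :
    ((Scheme.AffineZariskiSite.toOpensFunctor S).op.whiskerLeft A.str).Coequifibered :=
  Scheme.AffineZariskiSite.coequifibered_iff_forall_isLocalizationAway.mpr
    fun U r => A.isQC U.1 U.2 r

/-- The gluing datum. -/
def glueData : (Scheme.AffineZariskiSite.directedCover S).RelativeGluingData :=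
  Scheme.AffineZariskiSite.relativeGluingData A.coequifibered

instance : (A.glueData.functor ⋙ Scheme.forget).IsLocallyDirected :=
  Scheme.Cover.RelativeGluingData.instIsLocallyDirectedI₀CompFunctorForgetOfIsThin ..

/-- The glued scheme. -/
def spec : Scheme.{u} := A.glueData.glued

/-- The structure morphism. -/
def π : A.spec ⟶ S := A.glueData.toBase

/-- The chart. -/
def ι (U : S.Opens) (hU : IsAffineOpen U) : Spec (A.presheaf.obj (op U)) ⟶ A.spec :=
  A.glueData.cover.f ⟨U, hU⟩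

instance (U : S.Opens) (hU : IsAffineOpen U) : IsOpenImmersion (A.ι U hU) :=
  A.glueData.cover.map_prop _

@[reassoc]
theorem ι_π (U : S.Opens) (hU : IsAffineOpen U) :
    A.ι U hU ≫ A.π = Spec.map (A.str.app (op U)) ≫ hU.fromSpec :=
  colimit.ι_desc _ _

theorem π_preimage (U : S.Opens) (hU : IsAffineOpen U) : A.π ⁻¹ᵁ U = (A.ι U hU).opensRange := by
  simpa using! A.glueData.toBase_preimage_eq_opensRange_ι ⟨U, hU⟩

theorem isPullback (U : S.Opens) (hU : IsAffineOpen U) :
    IsPullback (A.ι U hU) (Spec.map (A.str.app (op U)) ≫ hU.isoSpec.inv) A.π U.ι := by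
  exact (A.glueData.isPullback_natTrans_ι_toBase ⟨U, hU⟩).flip

theorem hom_ext {Z : Scheme.{u}} {f g : A.spec ⟶ Z}
    (h : ∀ (U : S.Opens) (hU : IsAffineOpen U), A.ι U hU ≫ f = A.ι U hU ≫ g) : f = g :=
  colimit.hom_ext fun U => h U.1 U.2

/-- A property local on the target holds for `π` if it holds on all charts. -/
theorem π_of_charts (P : MorphismProperty Scheme.{u}) [IsZariskiLocalAtTarget P]
    (h : ∀ (U : S.Opens), IsAffineOpen U → P (Spec.map (A.str.app (op U)))) : P A.π := by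
  rw [IsZariskiLocalAtTarget.iff_of_openCover (P := P)
    (Scheme.AffineZariskiSite.directedCover S)]
  intro U
  have hp := (A.isPullback U.1 U.2).flip
  have : P (Spec.map (A.str.app (op U.1)) ≫ U.2.isoSpec.inv) :=
    (P.cancel_right_of_respectsIso _ _).2 (h U.1 U.2)
  show P (pullback.snd A.π U.1.ι)
  rw [← P.cancel_left_of_respectsIso (A.isPullback U.1 U.2).isoPullback.hom]
  rwa [IsPullback.isoPullback_hom_snd]

instance isAffineHom_π : IsAffineHom A.π where
  isAffine_preimage U hU := by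
    rw [A.π_preimage U hU]
    exact isAffineOpen_opensRange (A.ι U hU)

/-- A point over an affine open of the base lies in the chart. -/
theorem exists_lift (U : S.Opens) (hU : IsAffineOpen U) {R : CommRingCat.{u}}
    (s : Spec R ⟶ A.spec) (φ : Γ(S, U) ⟶ R) (h : s ≫ A.π = Spec.map φ ≫ hU.fromSpec) :
    ∃ e : A.presheaf.obj (op U) ⟶ R, A.str.app (op U) ≫ e = φ ∧ Spec.map e ≫ A.ι U hU = s := by
  have hrange : Set.range s ⊆ Set.range (A.ι U hU) := by
    rintro _ ⟨x, rfl⟩
    have h1 : A.π (s x) ∈ U := by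
      rw [← Scheme.Hom.comp_apply, h, Scheme.Hom.comp_apply]
      exact hU.range_fromSpec.le ⟨_, rfl⟩
    have h2 : s x ∈ A.π ⁻¹ᵁ U := h1
    rwa [A.π_preimage U hU] at h2
  let s' := IsOpenImmersion.lift (A.ι U hU) s hrange
  refine ⟨Spec.preimage s', ?_, by rw [Spec.map_preimage]; exact IsOpenImmersion.lift_fac ..⟩
  apply Spec.map_injective
  rw [Spec.map_comp, Spec.map_preimage, ← cancel_mono hU.fromSpec, ← h, Category.assoc, ← A.ι_π,
    IsOpenImmersion.lift_fac_assoc]

/-- Functoriality. -/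
def specMap {A B : PreAlg S} (φ : A.presheaf ⟶ B.presheaf) : B.spec ⟶ A.spec :=
  colimMap (Functor.whiskerRight
    (NatTrans.rightOp ((Scheme.AffineZariskiSite.toOpensFunctor S).op.whiskerLeft φ)) Scheme.Spec)

variable {A B C}

@[reassoc]
theorem ι_specMap (φ : A.presheaf ⟶ B.presheaf) (U : S.Opens) (hU : IsAffineOpen U) :
    B.ι U hU ≫ specMap φ = Spec.map (φ.app (op U)) ≫ A.ι U hU :=
  ι_colimMap _ _

@[reassoc]
theorem specMap_π (φ : A.presheaf ⟶ B.presheaf) (h : A.str ≫ φ = B.str) :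
    specMap φ ≫ A.π = B.π := by
  refine B.hom_ext fun U hU => ?_
  rw [ι_specMap_assoc, A.ι_π, B.ι_π, ← Spec.map_comp_assoc, ← NatTrans.comp_app, h]

@[reassoc]
theorem specMap_comp (φ : A.presheaf ⟶ B.presheaf) (ψ : B.presheaf ⟶ C.presheaf) :
    specMap (φ ≫ ψ) = specMap ψ ≫ specMap φ := by
  refine C.hom_ext fun U hU => ?_
  rw [ι_specMap, ι_specMap_assoc, ι_specMap, ← Spec.map_comp_assoc]
  rfl

/-- The direct image of a scheme affine over the base. -/
def dirImage {X : Scheme.{u}} (f : X ⟶ S) [IsAffineHom f] : PreAlg S where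
  presheaf := f.base _* X.presheaf
  str := f.c
  isQC := RelSpec.QCAlg.isQC_pushforward f

variable {X Y : Scheme.{u}} (f : X ⟶ S) (g : Y ⟶ S) [IsAffineHom f] [IsAffineHom g]

/-- The comparison map from the glued scheme back to `X`. -/
def κ : (dirImage f).spec ⟶ X :=
  colimit.desc _
    { pt := X
      ι :=
        { app := fun U => (U.2.preimage f).fromSpec
          naturality := fun V U i => by
            dsimp
            rw [Category.comp_id]
            exact (U.2.preimage f).map_fromSpec (V.2.preimage f)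
              (homOfLE (f.preimage_mono (Scheme.AffineZariskiSite.toOpens_mono i.le))).op } }

@[reassoc]
theorem ι_κ (U : S.Opens) (hU : IsAffineOpen U) :
    (dirImage f).ι U hU ≫ κ f = (hU.preimage f).fromSpec :=
  colimit.ι_desc _ _

@[reassoc (attr := simp)]
theorem κ_π : κ f ≫ f = (dirImage f).π := by
  refine (dirImage f).hom_ext fun U hU => ?_
  rw [ι_κ_assoc, ι_π]
  have := hU.SpecMap_appLE_fromSpec f (hU.preimage f) le_rfl
  refine this.symm.trans ?_
  rw [← Scheme.Hom.app_eq_appLE]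
  rfl

theorem κ_preimage (U : S.Opens) : κ f ⁻¹ᵁ (f ⁻¹ᵁ U) = (dirImage f).π ⁻¹ᵁ U := by
  rw [← κ_π f, Scheme.Hom.comp_preimage]

instance isIso_κ : IsIso (κ f) := by
  have hcover : ⨆ U : S.affineOpens, (f ⁻¹ᵁ U.1) = ⊤ := by
    rw [← Scheme.Hom.preimage_iSup, iSup_affineOpens_eq_top, Scheme.Hom.preimage_top]
  refine (IsZariskiLocalAtTarget.iff_of_iSup_eq_top (P := MorphismProperty.isomorphisms Scheme)
    _ hcover).2 fun U => ?_
  show IsIso (κ f ∣_ (f ⁻¹ᵁ U.1))
  let i := IsOpenImmersion.lift (κ f ⁻¹ᵁ (f ⁻¹ᵁ U.1)).ι ((dirImage f).ι U.1 U.2) (by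
    rw [Scheme.Opens.range_ι, κ_preimage, (dirImage f).π_preimage U.1 U.2]; rfl)
  have hi : i ≫ (κ f ⁻¹ᵁ (f ⁻¹ᵁ U.1)).ι = (dirImage f).ι U.1 U.2 := IsOpenImmersion.lift_fac ..
  have : IsIso i := by
    have : IsOpenImmersion (i ≫ (κ f ⁻¹ᵁ (f ⁻¹ᵁ U.1)).ι) := by rw [hi]; infer_instance
    have : IsOpenImmersion i := IsOpenImmersion.of_comp i (κ f ⁻¹ᵁ (f ⁻¹ᵁ U.1)).ι
    have : Surjective i := ⟨fun y => by
      have hy : (κ f ⁻¹ᵁ (f ⁻¹ᵁ U.1)).ι y ∈ ((dirImage f).ι U.1 U.2).opensRange := by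
        rw [← (dirImage f).π_preimage U.1 U.2, ← κ_preimage]
        exact (Scheme.Opens.range_ι _).le ⟨y, rfl⟩
      obtain ⟨x, hx⟩ := hy
      refine ⟨x, (κ f ⁻¹ᵁ (f ⁻¹ᵁ U.1)).ι.injective ?_⟩
      rw [← Scheme.Hom.comp_apply, hi]
      exact hx⟩
    exact (isIso_iff_isOpenImmersion_and_surjective _).2 ⟨inferInstance, inferInstance⟩
  have h1 : i ≫ κ f ∣_ (f ⁻¹ᵁ U.1) = (U.2.preimage f).isoSpec.inv := by
    rw [← cancel_mono (f ⁻¹ᵁ U.1).ι, Category.assoc, morphismRestrict_ι, reassoc_of% hi, ι_κ]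
    rfl
  have h2 : IsIso (i ≫ κ f ∣_ (f ⁻¹ᵁ U.1)) := h1 ▸ inferInstance
  exact IsIso.of_isIso_comp_left i _

/-- The map of direct images along a morphism over the base. -/
def mapAlg (m : Y ⟶ X) (hm : m ≫ f = g) : (dirImage f).presheaf ⟶ (dirImage g).presheaf where
  app U := m.appLE (f ⁻¹ᵁ U.unop) (g ⁻¹ᵁ U.unop) (by rw [← hm, Scheme.Hom.comp_preimage])
  naturality U V i := by
    show X.presheaf.map _ ≫ m.appLE _ _ _ = m.appLE _ _ _ ≫ Y.presheaf.map _
    rw [Scheme.Hom.map_appLE, Scheme.Hom.appLE_map]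

theorem str_mapAlg (m : Y ⟶ X) (hm : m ≫ f = g) :
    (dirImage f).str ≫ mapAlg f g m hm = (dirImage g).str := by
  subst hm
  apply NatTrans.ext
  funext U
  show f.app U.unop ≫ m.appLE _ _ _ = (m ≫ f).app U.unop
  rw [Scheme.Hom.app_eq_appLE, Scheme.Hom.appLE_comp_appLE, Scheme.Hom.app_eq_appLE]

@[reassoc]
theorem specMap_mapAlg_κ (m : Y ⟶ X) (hm : m ≫ f = g) :
    specMap (mapAlg f g m hm) ≫ κ f = κ g ≫ m := by
  refine (dirImage g).hom_ext fun U hU => ?_
  rw [ι_specMap_assoc, ι_κ, ι_κ_assoc]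
  exact (hU.preimage f).SpecMap_appLE_fromSpec m (hU.preimage g) _

end PreAlg

end Groth.Agent.FEtEq25
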