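import Groth.Agent.Lib.FEtEq25.Algebra
import Groth.Agent.Lib.FEtEq25.RelAffine
import Groth.Prelude.Def_FEt

/-!
# Coequalizers of finite étale schemes over a base
-/

universe u

open CategoryTheory CategoryTheory.Limits AlgebraicGeometry TopologicalSpace Opposite

noncomputable section

namespace Groth.Agent.FEtEq25

namespace PreAlg

variable {S X Y : Scheme.{u}} {f : X ⟶ S} {g : Y ⟶ S} [IsAffineHom f] [IsAffineHom g]

theorem res_eq (a b : Y ⟶ X) (ha : a ≫ f = g) (hb : b ≫ f = g) {U V : (Opens S.carrier)ᵒᵖ}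
    (i : U ⟶ V) (z : (dirImage f).presheaf.obj U)
    (hz : ((mapAlg f g a ha).app U).hom z = ((mapAlg f g b hb).app U).hom z) :
    ((mapAlg f g a ha).app V).hom (((dirImage f).presheaf.map i).hom z) =
      ((mapAlg f g b hb).app V).hom (((dirImage f).presheaf.map i).hom z) := by
  have h1 := ConcreteCategory.congr_hom ((mapAlg f g a ha).naturality i) z
  have h2 := ConcreteCategory.congr_hom ((mapAlg f g b hb).naturality i) z
  rw [ConcreteCategory.comp_apply, ConcreteCategory.comp_apply] at h1 h2
  exact h1.trans ((congrArg _ hz).trans h2.symm)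

/-- The presheaf of equalizer rings. -/
def eqPresheaf (a b : Y ⟶ X) (ha : a ≫ f = g) (hb : b ≫ f = g) :
    TopCat.Presheaf CommRingCat.{u} S.carrier where
  obj U := CommRingCat.of (((mapAlg f g a ha).app U).hom.eqLocus ((mapAlg f g b hb).app U).hom)
  map {U V} i := CommRingCat.ofHom (((dirImage f).presheaf.map i).hom.restrict _ _
    fun z hz => res_eq a b ha hb i z hz)
  map_id U := by
    ext z
    exact ConcreteCategory.congr_hom ((dirImage f).presheaf.map_id U) z.1
  map_comp i j := by
    ext z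
    exact ConcreteCategory.congr_hom ((dirImage f).presheaf.map_comp i j) z.1

variable (a b : Y ⟶ X) (ha : a ≫ f = g) (hb : b ≫ f = g)

theorem str_mem (U : (Opens S.carrier)ᵒᵖ) (r : S.presheaf.obj U) :
    ((mapAlg f g a ha).app U).hom (((dirImage f).str.app U).hom r) =
      ((mapAlg f g b hb).app U).hom (((dirImage f).str.app U).hom r) := by
  have h1 := ConcreteCategory.congr_hom (NatTrans.congr_app (str_mapAlg f g a ha) U) r
  have h2 := ConcreteCategory.congr_hom (NatTrans.congr_app (str_mapAlg f g b hb) U) r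
  exact h1.trans h2.symm

/-- The structure map into the equalizer. -/
def eqStr : S.presheaf ⟶ eqPresheaf a b ha hb where
  app U := CommRingCat.ofHom (((dirImage f).str.app U).hom.codRestrict _ (str_mem a b ha hb U))
  naturality U V i := by
    ext r
    exact Subtype.ext (ConcreteCategory.congr_hom ((dirImage f).str.naturality i) r)

theorem isQC_eq : RelSpec.IsQC (eqPresheaf a b ha hb) (eqStr a b ha hb) := by
  intro U hU r
  letI := ((eqPresheaf a b ha hb).map (homOfLE (S.basicOpen_le r)).op).hom.toAlgebra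
  let D := S.basicOpen r
  let i : (op U : (Opens S.carrier)ᵒᵖ) ⟶ op D := (homOfLE (S.basicOpen_le r)).op
  letI algX := ((dirImage f).presheaf.map i).hom.toAlgebra
  letI algY := ((dirImage g).presheaf.map i).hom.toAlgebra
  have hX : IsLocalization.Away (((dirImage f).str.app (op U)).hom r)
      ((dirImage f).presheaf.obj (op D)) := (dirImage f).isQC U hU r
  have hY : IsLocalization.Away (((dirImage g).str.app (op U)).hom r)
      ((dirImage g).presheaf.obj (op D)) := (dirImage g).isQC U hU r
  let s := ((dirImage f).str.app (op U)).hom r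
  let ρ := ((dirImage f).presheaf.map i).hom
  let ρ' := ((dirImage g).presheaf.map i).hom
  let aU := ((mapAlg f g a ha).app (op U)).hom
  let bU := ((mapAlg f g b hb).app (op U)).hom
  let aD := ((mapAlg f g a ha).app (op D)).hom
  let bD := ((mapAlg f g b hb).app (op D)).hom
  have hs : IsUnit (ρ s) := IsLocalization.Away.algebraMap_isUnit s
  obtain ⟨w, hw⟩ := hs.exists_right_inv
  have hsmem : aU s = bU s := str_mem a b ha hb (op U) r
  have hρs : aD (ρ s) = bD (ρ s) := res_eq a b ha hb i s hsmem
  have hwmem : aD w = bD w := by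
    have hu : IsUnit (aD (ρ s)) := hs.map aD
    refine hu.mul_left_cancel ?_
    conv_rhs => rw [hρs]
    rw [← map_mul, ← map_mul, hw, map_one, map_one]
  refine IsLocalization.Away.mk ((eqStr a b ha hb).app (op U) r) ?_ (fun z => ?_)
    (fun x y hxy => ?_)
  · exact IsUnit.of_mul_eq_one (⟨w, hwmem⟩ : (eqPresheaf a b ha hb).obj (op D)) (Subtype.ext hw)
  · obtain ⟨n, c, hc⟩ := IsLocalization.Away.surj s (z.1 : (dirImage f).presheaf.obj (op D))
    change z.1 * ρ s ^ n = ρ c at hc
    have hcD : ρ' (aU c) = ρ' (bU c) := by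
      have h1 := ConcreteCategory.congr_hom ((mapAlg f g a ha).naturality i) c
      have h2 := ConcreteCategory.congr_hom ((mapAlg f g b hb).naturality i) c
      rw [ConcreteCategory.comp_apply, ConcreteCategory.comp_apply] at h1 h2
      refine h1.symm.trans (Eq.trans ?_ h2)
      change aD (ρ c) = bD (ρ c)
      rw [← hc, map_mul, map_mul, map_pow, map_pow, z.2, hρs]
    obtain ⟨k, hk⟩ := IsLocalization.Away.exists_of_eq (((dirImage g).str.app (op U)).hom r) hcD
    have hsa : aU s = ((dirImage g).str.app (op U)).hom r :=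
      ConcreteCategory.congr_hom (NatTrans.congr_app (str_mapAlg f g a ha) (op U)) r
    refine ⟨n + k, ⟨s ^ k * c, ?_⟩, Subtype.ext ?_⟩
    · change aU (s ^ k * c) = bU (s ^ k * c)
      rw [map_mul, map_mul, map_pow, map_pow, ← hsmem, hsa]
      exact hk
    · change z.1 * ρ s ^ (n + k) = ρ (s ^ k * c)
      rw [map_mul, map_pow, ← hc, pow_add]
      ring
  · obtain ⟨k, hk⟩ := IsLocalization.Away.exists_of_eq s
      (show algebraMap _ ((dirImage f).presheaf.obj (op D)) x.1 = algebraMap _ _ y.1 from
        congrArg Subtype.val hxy)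
    exact ⟨k, Subtype.ext hk⟩

/-- The algebra of the coequalizer. -/
def eqAlg : PreAlg S := ⟨eqPresheaf a b ha hb, eqStr a b ha hb, isQC_eq a b ha hb⟩

/-- The inclusion into the direct image. -/
def eqIncl : (eqAlg a b ha hb).presheaf ⟶ (dirImage f).presheaf where
  app U := CommRingCat.ofHom (Subring.subtype _)
  naturality U V i := by ext z; rfl

theorem str_eqIncl : (eqAlg a b ha hb).str ≫ eqIncl a b ha hb = (dirImage f).str := rfl

theorem eqIncl_mapAlg :
    eqIncl a b ha hb ≫ mapAlg f g a ha = eqIncl a b ha hb ≫ mapAlg f g b hb := by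
  apply NatTrans.ext
  funext U
  ext z
  exact z.2

/-- The coequalizer projection. -/
def proj : X ⟶ (eqAlg a b ha hb).spec := inv (κ f) ≫ specMap (eqIncl a b ha hb)

theorem κ_proj : κ f ≫ proj a b ha hb = specMap (eqIncl a b ha hb) := by
  rw [proj, IsIso.hom_inv_id_assoc]

@[reassoc]
theorem proj_π : proj a b ha hb ≫ (eqAlg a b ha hb).π = f := by
  rw [proj, Category.assoc, specMap_π _ (str_eqIncl a b ha hb), IsIso.inv_comp_eq, κ_π]

theorem comp_proj : a ≫ proj a b ha hb = b ≫ proj a b ha hb := by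
  rw [← cancel_epi (κ g), ← specMap_mapAlg_κ_assoc f g a ha, ← specMap_mapAlg_κ_assoc f g b hb,
    κ_proj, ← specMap_comp, ← specMap_comp, eqIncl_mapAlg]

section Desc

variable {T : Scheme.{u}} (t : T ⟶ S) [IsAffineHom t] (m : X ⟶ T) (hm : m ≫ t = f)
  (hab : a ≫ m = b ≫ m)

include hab in
theorem mapAlg_mem (U : (Opens S.carrier)ᵒᵖ) (z : (dirImage t).presheaf.obj U) :
    ((mapAlg f g a ha).app U).hom (((mapAlg t f m hm).app U).hom z) =
      ((mapAlg f g b hb).app U).hom (((mapAlg t f m hm).app U).hom z) := by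
  have key : ∀ (c : Y ⟶ X) (hc : c ≫ f = g), (mapAlg t f m hm).app U ≫ (mapAlg f g c hc).app U =
      (mapAlg t g (c ≫ m) (by rw [Category.assoc, hm, hc])).app U := fun c hc =>
    Scheme.Hom.appLE_comp_appLE _ _ _ _ _ _ _
  have h1 := ConcreteCategory.congr_hom (key a ha) z
  have h2 := ConcreteCategory.congr_hom (key b hb) z
  refine h1.trans (Eq.trans ?_ h2.symm)
  congr 2
  simp only [hab]

include hab in
/-- The algebra map underlying `desc`. -/
def descAlg : (dirImage t).presheaf ⟶ (eqAlg a b ha hb).presheaf where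
  app U := CommRingCat.ofHom
    (((mapAlg t f m hm).app U).hom.codRestrict _ (mapAlg_mem a b ha hb t m hm hab U))
  naturality U V i := by
    ext z
    exact Subtype.ext (ConcreteCategory.congr_hom ((mapAlg t f m hm).naturality i) z)

include hab in
theorem descAlg_eqIncl :
    descAlg a b ha hb t m hm hab ≫ eqIncl a b ha hb = mapAlg t f m hm := rfl

include hab in
theorem str_descAlg :
    (dirImage t).str ≫ descAlg a b ha hb t m hm hab = (eqAlg a b ha hb).str := by
  apply NatTrans.ext
  funext U
  ext r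
  exact Subtype.ext (ConcreteCategory.congr_hom (NatTrans.congr_app (str_mapAlg t f m hm) U) r)

/-- The morphism out of the coequalizer. -/
def desc : (eqAlg a b ha hb).spec ⟶ T := specMap (descAlg a b ha hb t m hm hab) ≫ κ t

@[reassoc]
theorem desc_π : desc a b ha hb t m hm hab ≫ t = (eqAlg a b ha hb).π := by
  rw [desc, Category.assoc, κ_π, specMap_π _ (str_descAlg a b ha hb t m hm hab)]

@[reassoc]
theorem proj_desc : proj a b ha hb ≫ desc a b ha hb t m hm hab = m := by
  rw [← cancel_epi (κ f), ← Category.assoc, κ_proj, desc, ← Category.assoc, ← specMap_comp,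
    descAlg_eqIncl, specMap_mapAlg_κ]

/-- Uniqueness of morphisms out of the coequalizer. -/
theorem hom_ext_proj {p q : (eqAlg a b ha hb).spec ⟶ T} (hp : p ≫ t = (eqAlg a b ha hb).π)
    (hq : q ≫ t = (eqAlg a b ha hb).π)
    (h : proj a b ha hb ≫ p = proj a b ha hb ≫ q) : p = q := by
  refine (eqAlg a b ha hb).hom_ext fun U hU => ?_
  have key : ∀ r : (eqAlg a b ha hb).spec ⟶ T, r ≫ t = (eqAlg a b ha hb).π →
      ∃ χ : Γ(T, t ⁻¹ᵁ U) ⟶ (eqAlg a b ha hb).presheaf.obj (op U),
        Spec.map χ ≫ (hU.preimage t).fromSpec = (eqAlg a b ha hb).ι U hU ≫ r := by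
    intro r hr
    have hrange : Set.range ((eqAlg a b ha hb).ι U hU ≫ r) ⊆
        Set.range (hU.preimage t).fromSpec := by
      rintro _ ⟨x, rfl⟩
      rw [IsAffineOpen.range_fromSpec]
      show t (((eqAlg a b ha hb).ι U hU ≫ r) x) ∈ U
      rw [← Scheme.Hom.comp_apply, Category.assoc, hr, ι_π, Scheme.Hom.comp_apply]
      exact hU.range_fromSpec.le ⟨_, rfl⟩
    exact ⟨Spec.preimage (IsOpenImmersion.lift _ _ hrange),
      by rw [Spec.map_preimage]; exact IsOpenImmersion.lift_fac ..⟩
  obtain ⟨χp, hχp⟩ := key p hp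
  obtain ⟨χq, hχq⟩ := key q hq
  have hh : (dirImage f).ι U hU ≫ specMap (eqIncl a b ha hb) ≫ p =
      (dirImage f).ι U hU ≫ specMap (eqIncl a b ha hb) ≫ q := by
    rw [← κ_proj]
    simp only [Category.assoc, h]
  rw [ι_specMap_assoc, ι_specMap_assoc, ← hχp, ← hχq, ← Category.assoc, ← Category.assoc,
    cancel_mono, ← Spec.map_comp, ← Spec.map_comp] at hh
  have heq := Spec.map_injective hh
  have : χp = χq := by
    ext z
    exact Subtype.ext (ConcreteCategory.congr_hom heq z)
  rw [← hχp, ← hχq, this]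

end Desc

section FiniteEtale

variable [IsFinite f] [Etale f] [IsFinite g] [Etale g]

theorem isFinite_etale_str (U : S.Opens) (hU : IsAffineOpen U) :
    ((eqAlg a b ha hb).str.app (op U)).hom.Finite ∧
      ((eqAlg a b ha hb).str.app (op U)).hom.Etale := by
  letI := ((dirImage f).str.app (op U)).hom.toAlgebra
  letI := ((dirImage g).str.app (op U)).hom.toAlgebra
  have : Module.Finite Γ(S, U) ((dirImage f).presheaf.obj (op U)) := f.finite_app U hU
  have : Module.Finite Γ(S, U) ((dirImage g).presheaf.obj (op U)) := g.finite_app U hU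
  have : Algebra.Etale Γ(S, U) ((dirImage f).presheaf.obj (op U)) := by
    have := f.etale_appLE hU (hU.preimage f) le_rfl
    rw [← Scheme.Hom.app_eq_appLE] at this
    exact this
  have : Algebra.Etale Γ(S, U) ((dirImage g).presheaf.obj (op U)) := by
    have := g.etale_appLE hU (hU.preimage g) le_rfl
    rw [← Scheme.Hom.app_eq_appLE] at this
    exact this
  let uA : (dirImage f).presheaf.obj (op U) →ₐ[Γ(S, U)] (dirImage g).presheaf.obj (op U) :=
    { ((mapAlg f g a ha).app (op U)).hom with
      commutes' := fun r =>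
        ConcreteCategory.congr_hom (NatTrans.congr_app (str_mapAlg f g a ha) (op U)) r }
  let vA : (dirImage f).presheaf.obj (op U) →ₐ[Γ(S, U)] (dirImage g).presheaf.obj (op U) :=
    { ((mapAlg f g b hb).app (op U)).hom with
      commutes' := fun r =>
        ConcreteCategory.congr_hom (NatTrans.congr_app (str_mapAlg f g b hb) (op U)) r }
  let e : AlgHom.equalizer uA vA ≃+* (eqAlg a b ha hb).presheaf.obj (op U) :=
    { toFun := fun x => ⟨x.1, x.2⟩
      invFun := fun x => ⟨x.1, x.2⟩
      left_inv := fun x => rfl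
      right_inv := fun x => rfl
      map_mul' := fun x y => rfl
      map_add' := fun x y => rfl }
  have he : e.toRingHom.comp (algebraMap Γ(S, U) (AlgHom.equalizer uA vA)) =
      ((eqAlg a b ha hb).str.app (op U)).hom := rfl
  rw [← he]
  exact ⟨RingHom.finite_respectsIso.1 _ _ (RingHom.finite_algebraMap.2 inferInstance),
    RingHom.Etale.respectsIso.1 _ _ (RingHom.etale_algebraMap.2 inferInstance)⟩

theorem π_prop : FEt.prop (eqAlg a b ha hb).π :=
  ⟨(eqAlg a b ha hb).π_of_charts @IsFinite fun U hU =>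
      (IsFinite.SpecMap_iff _).2 (isFinite_etale_str a b ha hb U hU).1,
    (eqAlg a b ha hb).π_of_charts @Etale fun U hU =>
      (HasRingHomProperty.Spec_iff (P := @Etale)).2 (isFinite_etale_str a b ha hb U hU).2⟩

/-- The relation on geometric points of `X` generated by the pair. -/
def fibreRel {K : Type u} [Field K] (z z' : Spec (CommRingCat.of K) ⟶ X) : Prop :=
  ∃ y : Spec (CommRingCat.of K) ⟶ Y, y ≫ a = z ∧ y ≫ b = z'

/-- The geometric points of the coequalizer. -/
theorem points {K : Type u} [Field K] [IsAlgClosed K]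
    (ξ : Spec (CommRingCat.of K) ⟶ S) :
    (∀ s : Spec (CommRingCat.of K) ⟶ (eqAlg a b ha hb).spec, s ≫ (eqAlg a b ha hb).π = ξ →
      ∃ z, z ≫ f = ξ ∧ z ≫ proj a b ha hb = s) ∧
    (∀ z z' : Spec (CommRingCat.of K) ⟶ X, z ≫ f = ξ → z' ≫ f = ξ →
      z ≫ proj a b ha hb = z' ≫ proj a b ha hb →
      Relation.EqvGen (fun w w' => fibreRel a b w w') z z') := by
  let pt : ↥(Spec (CommRingCat.of K)) := IsLocalRing.closedPoint K
  have : Subsingleton ↥(Spec (CommRingCat.of K)) :=
    inferInstanceAs (Subsingleton (PrimeSpectrum K))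
  obtain ⟨_, ⟨U, hU, rfl⟩, hxU, -⟩ := S.isBasis_affineOpens.exists_subset_of_mem_open
    (Set.mem_univ (ξ pt)) isOpen_univ
  obtain ⟨φ, hφ⟩ : ∃ φ : Γ(S, U) ⟶ CommRingCat.of K, Spec.map φ ≫ hU.fromSpec = ξ := by
    have hrange : Set.range ξ ⊆ Set.range hU.fromSpec := by
      rintro _ ⟨x, rfl⟩
      rw [IsAffineOpen.range_fromSpec, Subsingleton.elim x pt]
      exact hxU
    exact ⟨Spec.preimage (IsOpenImmersion.lift _ _ hrange),
      by rw [Spec.map_preimage]; exact IsOpenImmersion.lift_fac ..⟩
  letI := ((dirImage f).str.app (op U)).hom.toAlgebra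
  letI := ((dirImage g).str.app (op U)).hom.toAlgebra
  letI := φ.hom.toAlgebra
  have : Module.Finite Γ(S, U) ((dirImage f).presheaf.obj (op U)) := f.finite_app U hU
  have : Module.Finite Γ(S, U) ((dirImage g).presheaf.obj (op U)) := g.finite_app U hU
  have : Algebra.Etale Γ(S, U) ((dirImage f).presheaf.obj (op U)) := by
    have := f.etale_appLE hU (hU.preimage f) le_rfl
    rw [← Scheme.Hom.app_eq_appLE] at this
    exact this
  have : Algebra.Etale Γ(S, U) ((dirImage g).presheaf.obj (op U)) := by
    have := g.etale_appLE hU (hU.preimage g) le_rfl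
    rw [← Scheme.Hom.app_eq_appLE] at this
    exact this
  let uA : (dirImage f).presheaf.obj (op U) →ₐ[Γ(S, U)] (dirImage g).presheaf.obj (op U) :=
    { ((mapAlg f g a ha).app (op U)).hom with
      commutes' := fun r =>
        ConcreteCategory.congr_hom (NatTrans.congr_app (str_mapAlg f g a ha) (op U)) r }
  let vA : (dirImage f).presheaf.obj (op U) →ₐ[Γ(S, U)] (dirImage g).presheaf.obj (op U) :=
    { ((mapAlg f g b hb).app (op U)).hom with
      commutes' := fun r =>
        ConcreteCategory.congr_hom (NatTrans.congr_app (str_mapAlg f g b hb) (op U)) r }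
  -- points of `X` over `ξ` are algebra maps
  let pointOf : ((dirImage f).presheaf.obj (op U) →ₐ[Γ(S, U)] K) →
      (Spec (CommRingCat.of K) ⟶ X) := fun χ =>
    Spec.map (CommRingCat.ofHom χ.toRingHom) ≫ (dirImage f).ι U hU ≫ κ f
  have hpointOf : ∀ z, z ≫ f = ξ → ∃ χ, pointOf χ = z := by
    intro z hz
    obtain ⟨e, he, hs⟩ := (dirImage f).exists_lift U hU (z ≫ inv (κ f)) φ (by
      rw [Category.assoc, hφ, ← κ_π f, IsIso.inv_hom_id_assoc, hz])
    refine ⟨{ e.hom with commutes' := fun r => ConcreteCategory.congr_hom he r }, ?_⟩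
    show Spec.map e ≫ (dirImage f).ι U hU ≫ κ f = z
    rw [← Category.assoc, hs, Category.assoc, IsIso.inv_hom_id, Category.comp_id]
  have hover : ∀ χ, pointOf χ ≫ f = ξ := fun χ => by
    simp only [pointOf, Category.assoc, κ_π, ι_π]
    rw [← Spec.map_comp_assoc, ← hφ]
    congr 2
    ext r
    exact χ.commutes r
  have hproj : ∀ χ, pointOf χ ≫ proj a b ha hb =
      Spec.map (CommRingCat.ofHom
        ((χ.comp (AlgHom.equalizer uA vA).val).toRingHom.comp
          (show (eqAlg a b ha hb).presheaf.obj (op U) →+* AlgHom.equalizer uA vA from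
            { toFun := fun x => ⟨x.1, x.2⟩
              map_one' := rfl
              map_mul' := fun _ _ => rfl
              map_zero' := rfl
              map_add' := fun _ _ => rfl }))) ≫ (eqAlg a b ha hb).ι U hU := fun χ => by
    simp only [pointOf, Category.assoc, κ_proj, ι_specMap, ← Spec.map_comp_assoc]
    rfl
  constructor
  · intro s hs
    obtain ⟨e, he, hes⟩ := (eqAlg a b ha hb).exists_lift U hU s φ (by rw [hs, hφ])
    let eA : AlgHom.equalizer uA vA →ₐ[Γ(S, U)] K :=
      { toFun := fun x => e.hom ⟨x.1, x.2⟩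
        map_one' := map_one e.hom
        map_mul' := fun x y => map_mul e.hom ⟨x.1, x.2⟩ ⟨y.1, y.2⟩
        map_zero' := map_zero e.hom
        map_add' := fun x y => map_add e.hom ⟨x.1, x.2⟩ ⟨y.1, y.2⟩
        commutes' := fun r => ConcreteCategory.congr_hom he r }
    obtain ⟨χ, hχ⟩ := surjective_restrict uA vA K eA
    refine ⟨pointOf χ, hover χ, ?_⟩
    rw [hproj, show χ.comp (AlgHom.equalizer uA vA).val = eA from hχ]
    exact hes
  · intro z z' hz hz' hzz
    obtain ⟨χ, rfl⟩ := hpointOf z hz
    obtain ⟨χ', rfl⟩ := hpointOf z' hz'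
    rw [hproj, hproj, cancel_mono] at hzz
    have heq := Spec.map_injective hzz
    have hres : χ.comp (AlgHom.equalizer uA vA).val = χ'.comp (AlgHom.equalizer uA vA).val := by
      ext x
      exact ConcreteCategory.congr_hom heq ⟨x.1, x.2⟩
    have hgen := eqvGen_of_restrict_eq uA vA hres
    clear hzz heq hres hz hz'
    induction hgen with
    | rel c c' hcc =>
      obtain ⟨ψ, rfl, rfl⟩ := hcc
      refine .rel _ _ ⟨Spec.map (CommRingCat.ofHom ψ.toRingHom) ≫ (dirImage g).ι U hU ≫ κ g, ?_, ?_⟩
      · simp only [pointOf, Category.assoc, ← specMap_mapAlg_κ f g a ha, ι_specMap_assoc,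
          ← Spec.map_comp_assoc]
        rfl
      · simp only [pointOf, Category.assoc, ← specMap_mapAlg_κ f g b hb, ι_specMap_assoc,
          ← Spec.map_comp_assoc]
        rfl
    | refl c => exact .refl _
    | symm c c' _ ih => exact .symm _ _ ih
    | trans c c' c'' _ _ ih1 ih2 => exact .trans _ _ _ ih1 ih2

end FiniteEtale

end PreAlg

end Groth.Agent.FEtEq25
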