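import Mathlib

/-!
# Equalizers of maps of finite étale algebras

For two maps `u v : C → D` of finite étale `A`-algebras, the cokernel of `u - v` is projective;
hence the equalizer commutes with every base change.
-/

open TensorProduct

universe u

namespace Groth.Agent.FEtEq25

section Linear

variable {A : Type*} [CommRing A] {M N : Type*} [AddCommGroup M] [Module A M]
  [AddCommGroup N] [Module A N]

/-- The base change of a cokernel is a cokernel. -/
theorem exists_cokerEquiv (R : Type*) [CommRing R] [Algebra A R] (w : M →ₗ[A] N)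
    {M' N' : Type*} [AddCommGroup M'] [Module R M'] [AddCommGroup N'] [Module R N']
    (eM : R ⊗[A] M ≃ₗ[R] M') (eN : R ⊗[A] N ≃ₗ[R] N') (g : M' →ₗ[R] N')
    (h : ∀ x, g (eM x) = eN (w.baseChange R x)) :
    Nonempty ((R ⊗[A] (N ⧸ LinearMap.range w)) ≃ₗ[R] N' ⧸ LinearMap.range g) := by
  let q : N' →ₗ[R] R ⊗[A] (N ⧸ LinearMap.range w) :=
    (LinearMap.range w).mkQ.baseChange R ∘ₗ eN.symm.toLinearMap
  have hsurj : Function.Surjective q :=
    ((LinearMap.lTensor_surjective R (LinearMap.range w).mkQ_surjective)).comp eN.symm.surjective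
  have hker : LinearMap.ker q = LinearMap.range g := by
    ext y
    have hex := lTensor_exact R (LinearMap.exact_map_mkQ_range w) (LinearMap.range w).mkQ_surjective
    rw [LinearMap.mem_ker, LinearMap.mem_range]
    show (LinearMap.range w).mkQ.lTensor R (eN.symm y) = 0 ↔ _
    rw [hex _]
    constructor
    · rintro ⟨x, hx⟩
      exact ⟨eM x, (h x).trans (by rw [LinearEquiv.eq_symm_apply] at hx; exact hx)⟩
    · rintro ⟨x, rfl⟩
      refine ⟨eM.symm x, ?_⟩
      rw [LinearEquiv.eq_symm_apply]
      have := h (eM.symm x)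
      rw [eM.apply_symm_apply] at this
      exact this.symm
  exact ⟨((Submodule.quotEquivOfEq _ _ hker.symm).trans
    (q.quotKerEquivOfSurjective hsurj)).symm⟩

end Linear

section Graph

variable {I J : Type*} [Finite I] [Finite J]

/-- `f ↦ f ∘ a - f ∘ b`. -/
def graphMap (R : Type*) [CommRing R] (a b : J → I) : (I → R) →ₗ[R] (J → R) :=
  LinearMap.funLeft R R a - LinearMap.funLeft R R b

theorem isTorsionFree_coker_graphMap_int (a b : J → I) :
    Module.IsTorsionFree ℤ ((J → ℤ) ⧸ LinearMap.range (graphMap ℤ a b)) := by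
  classical
  refine .of_smul_eq_zero fun k x hx => ?_
  by_contra hh
  push_neg at hh
  obtain ⟨hk, hx0⟩ := hh
  obtain ⟨g, rfl⟩ := Submodule.mkQ_surjective _ x
  apply hx0
  rw [Submodule.mkQ_apply, ← Submodule.Quotient.mk_smul, Submodule.Quotient.mk_eq_zero] at hx
  obtain ⟨f, hf⟩ := hx
  rw [Submodule.mkQ_apply, Submodule.Quotient.mk_eq_zero]
  -- `f` is constant mod `k` on the classes of the relation generated by `a j ~ b j`
  let s : Setoid I := Relation.EqvGen.setoid fun i i' => ∃ j, a j = i ∧ b j = i'
  have hmod : ∀ i i', Relation.EqvGen (fun i i' => ∃ j, a j = i ∧ b j = i') i i' →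
      k ∣ f i - f i' := by
    intro i i' h
    induction h with
    | rel i i' h =>
      obtain ⟨j, rfl, rfl⟩ := h
      refine ⟨g j, ?_⟩
      simpa [graphMap] using congrFun hf j
    | refl => simp
    | symm _ _ _ ih => rw [← neg_sub]; exact ih.neg_right
    | trans _ _ _ _ _ ih1 ih2 => simpa using ih1.add ih2
  let f0 : I → ℤ := fun i => f i - f (Quotient.out (Quotient.mk s i))
  have hdvd : ∀ i, k ∣ f0 i := fun i =>
    hmod _ _ (Quotient.exact (Quotient.out_eq (Quotient.mk s i)).symm)
  choose h hh using hdvd
  refine ⟨h, ?_⟩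
  funext j
  have hab : Quotient.mk s (a j) = Quotient.mk s (b j) :=
    Quotient.sound (Relation.EqvGen.rel _ _ ⟨j, rfl, rfl⟩)
  have hj : f (a j) - f (b j) = k * g j := by simpa [graphMap] using congrFun hf j
  apply mul_left_cancel₀ hk
  show k * (h (a j) - h (b j)) = k * g j
  rw [mul_sub, ← hh, ← hh]
  simp only [f0, hab]
  linear_combination hj

theorem flat_coker_graphMap (R : Type*) [CommRing R] (a b : J → I) :
    Module.Flat R ((J → R) ⧸ LinearMap.range (graphMap R a b)) := by
  classical
  cases nonempty_fintype I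
  cases nonempty_fintype J
  have := isTorsionFree_coker_graphMap_int a b
  have : Module.Free ℤ ((J → ℤ) ⧸ LinearMap.range (graphMap ℤ a b)) :=
    Module.free_of_finite_type_torsion_free'
  obtain ⟨e⟩ := exists_cokerEquiv R (graphMap ℤ a b) (TensorProduct.piScalarRight ℤ R R I)
    (TensorProduct.piScalarRight ℤ R R J) (graphMap R a b) (fun x => by
      induction x with
      | zero => simp
      | tmul r f =>
        funext j
        simp [graphMap, LinearMap.baseChange_tmul, sub_mul]
      | add x y hx hy => rw [map_add, map_add, hx, hy, map_add, map_add])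
  exact Module.Flat.of_linearEquiv e.symm

end Graph

/-- An algebra map out of a finite power of a connected ring is an evaluation. -/
theorem exists_eq_eval {R : Type*} [CommRing R] [IsLocalRing R] {I : Type*} [Finite I]
    (φ : (I → R) →ₐ[R] R) : ∃ i, ∀ f, φ f = f i := by
  classical
  cases nonempty_fintype I
  have hsum : ∑ i, φ (Pi.single i 1) = 1 := by
    have : ∑ i, Pi.single i (1 : R) = (1 : I → R) := Finset.univ_sum_single (1 : I → R)
    rw [← map_sum, this]
    exact map_one φ
  obtain ⟨i, hi⟩ : ∃ i, IsUnit (φ (Pi.single i 1)) := by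
    by_contra hh
    push_neg at hh
    exact one_notMem_nonunits (hsum ▸ Ideal.sum_mem (IsLocalRing.maximalIdeal R) fun i _ => hh i)
  have hidem : φ (Pi.single i 1) = 1 := by
    refine hi.mul_left_cancel ?_
    rw [← map_mul, mul_one, ← Pi.single_mul]
    simp
  refine ⟨i, fun f => ?_⟩
  calc φ f = φ f * φ (Pi.single i 1) := by rw [hidem, mul_one]
    _ = φ (f * Pi.single i 1) := (map_mul φ _ _).symm
    _ = φ (f i • Pi.single i 1) := by
        congr 1; funext j
        rcases eq_or_ne j i with rfl | hj <;> simp [*]
    _ = f i := by rw [map_smul, hidem, smul_eq_mul, mul_one]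

section Coker

variable {A C D : Type u} [CommRing A] [CommRing C] [CommRing D] [Algebra A C] [Algebra A D]
  (u v : C →ₐ[A] D)

/-- The difference of two algebra maps as a linear map. -/
def diffMap : C →ₗ[A] D := u.toLinearMap - v.toLinearMap

/-- The split case over a local ring. -/
theorem flat_coker_of_split (R : Type u) [CommRing R] [IsLocalRing R] [Algebra A R]
    [Algebra.IsFiniteSplit R (R ⊗[A] C)] [Algebra.IsFiniteSplit R (R ⊗[A] D)] :
    Module.Flat R (R ⊗[A] (D ⧸ LinearMap.range (diffMap u v))) := by
  obtain ⟨n, ⟨eC⟩⟩ := Algebra.IsFiniteSplit.nonempty_algEquiv_fun R (R ⊗[A] C)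
  obtain ⟨m, ⟨eD⟩⟩ := Algebra.IsFiniteSplit.nonempty_algEquiv_fun R (R ⊗[A] D)
  let map' (φ : C →ₐ[A] D) : (Fin n → R) →ₐ[R] (Fin m → R) :=
    eD.toAlgHom.comp ((Algebra.TensorProduct.map (AlgHom.id R R) φ).comp eC.symm.toAlgHom)
  choose a ha using fun j => exists_eq_eval ((Pi.evalAlgHom R (fun _ => R) j).comp (map' u))
  choose b hb using fun j => exists_eq_eval ((Pi.evalAlgHom R (fun _ => R) j).comp (map' v))
  obtain ⟨e⟩ := exists_cokerEquiv R (diffMap u v) eC.toLinearEquiv eD.toLinearEquiv
    (graphMap R a b) (fun x => by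
      funext j
      have h1 := ha j (eC x)
      have h2 := hb j (eC x)
      change eD (Algebra.TensorProduct.map (AlgHom.id R R) u (eC.symm (eC x))) j = _ at h1
      change eD (Algebra.TensorProduct.map (AlgHom.id R R) v (eC.symm (eC x))) j = _ at h2
      rw [eC.symm_apply_apply] at h1 h2
      show eC x (a j) - eC x (b j) = eD ((diffMap u v).baseChange R x) j
      rw [← h1, ← h2, diffMap, LinearMap.baseChange_sub, LinearMap.sub_apply, map_sub,
        Pi.sub_apply]
      rfl)
  have := flat_coker_graphMap R a b
  exact Module.Flat.of_linearEquiv e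

theorem flat_coker_of_isFiniteSplit (R : Type u) [CommRing R] [Algebra A R]
    [Algebra.IsFiniteSplit R (R ⊗[A] C)] [Algebra.IsFiniteSplit R (R ⊗[A] D)] :
    Module.Flat R (R ⊗[A] (D ⧸ LinearMap.range (diffMap u v))) := by
  refine Module.flat_of_localized_maximal _ fun P _ => ?_
  let Rp := Localization.AtPrime P
  have : Algebra.IsFiniteSplit Rp (Rp ⊗[A] C) :=
    .of_algEquiv (Algebra.TensorProduct.cancelBaseChange A R Rp Rp C)
  have : Algebra.IsFiniteSplit Rp (Rp ⊗[A] D) :=
    .of_algEquiv (Algebra.TensorProduct.cancelBaseChange A R Rp Rp D)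
  have h1 := flat_coker_of_split u v Rp
  have h2 : Module.Flat R Rp := IsLocalization.flat _ P.primeCompl
  have h3 : Module.Flat R (Rp ⊗[A] (D ⧸ LinearMap.range (diffMap u v))) := Module.Flat.trans R Rp _
  exact Module.Flat.of_linearEquiv
    ((LocalizedModule.equivTensorProduct P.primeCompl _).restrictScalars R ≪≫ₗ
      (TensorProduct.AlgebraTensorModule.cancelBaseChange A R Rp Rp _).restrictScalars R)

variable [Module.Finite A C] [Algebra.Etale A C] [Module.Finite A D] [Algebra.Etale A D]

theorem exists_split (R : Type u) [CommRing R] [Algebra A R] (B : Type u) [CommRing B]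
    [Algebra A B] [Module.Finite A B] [Algebra.Etale A B]
    (hR : ∀ p : PrimeSpectrum R, Module.rankAtStalk (R := R) (R ⊗[A] B) p =
      Module.finrank A B) :
    ∃ (T : Type u) (_ : CommRing T) (_ : Algebra R T) (_ : Algebra A T)
      (_ : IsScalarTower A R T) (_ : Module.FaithfullyFlat R T),
      Algebra.IsFiniteSplit T (T ⊗[A] B) := by
  obtain ⟨T, _, _, _, _, _, hT⟩ := Algebra.IsFiniteSplit.exists_tensorProduct_of_etale
    (R := R) (S := R ⊗[A] B) (n := Module.finrank A B) (funext hR)
  let : Algebra A T := Algebra.compHom T (algebraMap A R)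
  have : IsScalarTower A R T := IsScalarTower.of_algebraMap_eq' rfl
  exact ⟨T, inferInstance, inferInstance, inferInstance, inferInstance, inferInstance,
    .of_algEquiv (Algebra.TensorProduct.cancelBaseChange A R T T B)⟩

theorem flat_coker_of_isLocalRing [IsLocalRing A] :
    Module.Flat A (D ⧸ LinearMap.range (diffMap u v)) := by
  have : Module.Free A C := Module.free_of_flat_of_isLocalRing
  have : Module.Free A D := Module.free_of_flat_of_isLocalRing
  have hC : Module.rankAtStalk (R := A) C = ↑(Module.finrank A C) :=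
    Module.rankAtStalk_eq_finrank_of_free
  obtain ⟨T, _, _, _, _, _, _⟩ := Algebra.IsFiniteSplit.exists_tensorProduct_of_etale
    (R := A) (S := C) (n := Module.finrank A C) hC
  have hrk : ∀ p : PrimeSpectrum T,
      Module.rankAtStalk (R := T) (T ⊗[A] D) p = Module.finrank A D := fun p => by
    rw [congrFun Module.rankAtStalk_eq_finrank_of_free p]
    have : Nontrivial T := p.nontrivial
    exact Module.finrank_baseChange
  obtain ⟨T', _, _, _, _, _, _⟩ := exists_split T D hrk
  have : Algebra.IsFiniteSplit T' (T' ⊗[A] C) :=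
    .of_algEquiv (Algebra.TensorProduct.cancelBaseChange A T T' T' C)
  have h1 := flat_coker_of_isFiniteSplit u v T'
  have : Module.FaithfullyFlat A T' := Module.FaithfullyFlat.trans A T T'
  exact Module.Flat.of_flat_tensorProduct A _ T'

theorem flat_coker : Module.Flat A (D ⧸ LinearMap.range (diffMap u v)) := by
  refine Module.flat_of_localized_maximal _ fun P _ => ?_
  let Rp := Localization.AtPrime P
  let u' : Rp ⊗[A] C →ₐ[Rp] Rp ⊗[A] D := Algebra.TensorProduct.map (AlgHom.id Rp Rp) u
  let v' : Rp ⊗[A] C →ₐ[Rp] Rp ⊗[A] D := Algebra.TensorProduct.map (AlgHom.id Rp Rp) v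
  obtain ⟨e⟩ := exists_cokerEquiv Rp (diffMap u v) (LinearEquiv.refl Rp _) (LinearEquiv.refl Rp _)
    (diffMap u' v') (fun x => by
      simp only [diffMap, LinearEquiv.refl_apply, LinearMap.baseChange_sub, LinearMap.sub_apply]
      rfl)
  have h1 := flat_coker_of_isLocalRing u' v'
  have h2 : Module.Flat A Rp := IsLocalization.flat _ P.primeCompl
  have h3 : Module.Flat Rp (Rp ⊗[A] (D ⧸ LinearMap.range (diffMap u v))) :=
    Module.Flat.of_linearEquiv e
  have h4 := Module.Flat.trans A Rp (Rp ⊗[A] (D ⧸ LinearMap.range (diffMap u v)))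
  exact Module.Flat.of_linearEquiv
    ((LocalizedModule.equivTensorProduct P.primeCompl _).restrictScalars A)

/-- A generalized inverse of `u - v`. -/
theorem exists_genInverse : ∃ r : D →ₗ[A] C, diffMap u v ∘ₗ r ∘ₗ diffMap u v = diffMap u v := by
  set w := diffMap u v
  have := flat_coker u v
  have : Module.FinitePresentation A D :=
    Module.FinitePresentation.of_finite_of_finitePresentation A D
  have : Module.FinitePresentation A (D ⧸ LinearMap.range w) :=
    Module.finitePresentation_of_surjective _ (LinearMap.range w).mkQ_surjective (by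
      rw [Submodule.ker_mkQ]; exact Submodule.fg_range w)
  have : Module.Projective A (D ⧸ LinearMap.range w) :=
    Module.Flat.projective_of_finitePresentation
  obtain ⟨s, hs⟩ := Module.projective_lifting_property (LinearMap.range w).mkQ LinearMap.id
    (LinearMap.range w).mkQ_surjective
  -- the projection onto the range
  let π : D →ₗ[A] LinearMap.range w :=
    LinearMap.codRestrict _ (LinearMap.id - s ∘ₗ (LinearMap.range w).mkQ) (fun y => by
      rw [← Submodule.Quotient.mk_eq_zero]
      have := LinearMap.congr_fun hs ((LinearMap.range w).mkQ y)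
      simp only [LinearMap.comp_apply, Submodule.mkQ_apply, LinearMap.id_apply] at this
      simp [this])
  have : Module.Projective A D := Module.Flat.projective_of_finitePresentation
  have : Module.Projective A (LinearMap.range w) :=
    .of_split (LinearMap.range w).subtype π (by
      ext ⟨y, hy⟩
      simp [π, (Submodule.Quotient.mk_eq_zero _).2 hy])
  obtain ⟨t, ht⟩ := Module.projective_lifting_property w.rangeRestrict LinearMap.id
    w.surjective_rangeRestrict
  refine ⟨t ∘ₗ π, ?_⟩
  ext x
  have := congrArg Subtype.val (LinearMap.congr_fun ht (π (w x)))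
  simp only [LinearMap.comp_apply, LinearMap.id_apply] at this
  show w (t (π (w x))) = w x
  rw [show w (t (π (w x))) = _ from this]
  simp [π, (Submodule.Quotient.mk_eq_zero _).2 (LinearMap.mem_range_self w x)]

end Coker

end Groth.Agent.FEtEq25
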