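import Groth.Agent.Lib.PtSet.Components
import Groth.Agent.Lib.FEtEq25.Galois
import Groth.Agent.Lib.FEtEq25.Graph
import Mathlib.Topology.Connected.TotallyDisconnected

/-!
# Connected components from clopen subsets
-/

universe u

open CategoryTheory CategoryTheory.Limits AlgebraicGeometry TopologicalSpace

noncomputable section

namespace Groth.Agent.FEtEq25

theorem mk_preimage_image_clopen {α : Type*} [TopologicalSpace α] {D : Set α} (hD : IsClopen D) :
    ((↑) : α → ConnectedComponents α) ⁻¹' (((↑) : α → ConnectedComponents α) '' D) = D := by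
  refine Set.Subset.antisymm ?_ (Set.subset_preimage_image _ _)
  rintro y ⟨z, hz, hzy⟩
  exact hD.connectedComponent_subset hz (ConnectedComponents.coe_eq_coe'.1 hzy.symm)

/-- A map of qcqs prespectral spaces inducing a bijection on clopens induces a homeomorphism on
connected components. -/
theorem isHomeomorph_connectedComponentsMap {α β : Type*} [TopologicalSpace α] [TopologicalSpace β]
    [CompactSpace α] [PrespectralSpace α] [QuasiSeparatedSpace α]
    [CompactSpace β] [PrespectralSpace β] [QuasiSeparatedSpace β] {f : α → β} (hf : Continuous f)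
    (hinj : ∀ D : Set β, IsClopen D → f ⁻¹' D = ∅ → D = ∅)
    (hsurj : ∀ C : Set α, IsClopen C → ∃ D : Set β, IsClopen D ∧ f ⁻¹' D = C) :
    IsHomeomorph hf.connectedComponentsMap := by
  have sepA : ∀ a b : α, a ∉ connectedComponent b → ∃ C : Set α, IsClopen C ∧ b ∈ C ∧ a ∉ C := by
    intro a b h
    rw [PtSet.connectedComponent_eq_sInter_isClopen_qcqs b] at h
    simp only [Set.mem_sInter, Set.mem_setOf_eq, not_forall] at h
    obtain ⟨C, ⟨hC, hbC⟩, haC⟩ := h
    exact ⟨C, hC, hbC, haC⟩
  have sepB : ∀ a b : β, a ∉ connectedComponent b → ∃ C : Set β, IsClopen C ∧ b ∈ C ∧ a ∉ C := by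
    intro a b h
    rw [PtSet.connectedComponent_eq_sInter_isClopen_qcqs b] at h
    simp only [Set.mem_sInter, Set.mem_setOf_eq, not_forall] at h
    obtain ⟨C, ⟨hC, hbC⟩, haC⟩ := h
    exact ⟨C, hC, hbC, haC⟩
  have hq := ConnectedComponents.isQuotientMap_coe (α := β)
  have : T2Space (ConnectedComponents β) := by
    refine ⟨fun p q hpq => ?_⟩
    obtain ⟨a, rfl⟩ := ConnectedComponents.surjective_coe p
    obtain ⟨b, rfl⟩ := ConnectedComponents.surjective_coe q
    obtain ⟨C, hC, hbC, haC⟩ := sepB a b (fun h => hpq (ConnectedComponents.coe_eq_coe'.2 h))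
    refine ⟨((↑) : β → ConnectedComponents β) '' Cᶜ, ((↑) : β → ConnectedComponents β) '' C,
      ?_, ?_, ⟨a, haC, rfl⟩, ⟨b, hbC, rfl⟩, ?_⟩
    · rw [← hq.isOpen_preimage, mk_preimage_image_clopen hC.compl]; exact hC.compl.2
    · rw [← hq.isOpen_preimage, mk_preimage_image_clopen hC]; exact hC.2
    · rw [Set.disjoint_left]
      rintro _ ⟨x, hx, rfl⟩ ⟨z, hz, hzx⟩
      have : x ∈ ((↑) : β → ConnectedComponents β) ⁻¹' (((↑) : β → ConnectedComponents β) '' C) :=
        ⟨z, hz, hzx⟩
      rw [mk_preimage_image_clopen hC] at this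
      exact hx this
  have : CompactSpace (ConnectedComponents α) :=
    ⟨by
      rw [← (ConnectedComponents.surjective_coe (α := α)).range_eq]
      exact isCompact_range ConnectedComponents.continuous_coe⟩
  refine isHomeomorph_iff_continuous_bijective.2 ⟨hf.connectedComponentsMap_continuous, ?_, ?_⟩
  · intro p q h
    obtain ⟨a, rfl⟩ := ConnectedComponents.surjective_coe p
    obtain ⟨b, rfl⟩ := ConnectedComponents.surjective_coe q
    rw [Continuous.connectedComponentsMap_mk, Continuous.connectedComponentsMap_mk] at h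
    by_contra hne
    obtain ⟨C, hC, hbC, haC⟩ := sepA a b (fun h => hne (ConnectedComponents.coe_eq_coe'.2 h))
    obtain ⟨D, hD, rfl⟩ := hsurj C hC
    exact haC (hD.connectedComponent_subset hbC (ConnectedComponents.coe_eq_coe'.1 h))
  · intro q
    obtain ⟨y, rfl⟩ := ConnectedComponents.surjective_coe q
    by_contra hne
    have hsep : ∀ a : α, ∃ C : Set β, IsClopen C ∧ y ∈ C ∧ f a ∉ C := fun a =>
      sepB (f a) y fun h => hne ⟨a, by
        rw [Continuous.connectedComponentsMap_mk]; exact ConnectedComponents.coe_eq_coe'.2 h⟩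
    choose C hC hyC haC using hsep
    obtain ⟨t, ht⟩ := isCompact_univ.elim_finite_subcover (fun a => f ⁻¹' (C a)ᶜ)
      (fun a => (hC a).compl.2.preimage hf) fun a _ => Set.mem_iUnion.2 ⟨a, haC a⟩
    have hD : IsClopen (⋂ a ∈ t, C a) := isClopen_biInter_finset fun a _ => hC a
    have h0 : f ⁻¹' (⋂ a ∈ t, C a) = ∅ := Set.eq_empty_iff_forall_notMem.2 fun x hx => by
      obtain ⟨a, ha, hxa⟩ := Set.mem_iUnion₂.1 (ht (Set.mem_univ x))
      exact hxa (Set.mem_iInter₂.1 hx a ha)
    exact Set.eq_empty_iff_forall_notMem.1 (hinj _ hD h0) y (Set.mem_iInter₂.2 fun a _ => hyC a)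

variable {X Y : Scheme.{u}} (f : X ⟶ Y)

theorem eq_empty_of_preimage_eq_empty [(FEt.restrict f).Full] {D : Set Y} (hD : IsClopen D)
    (h : f ⁻¹' D = ∅) : D = ∅ := by
  let T : FEt.Cat Y := MorphismProperty.Over.mk ⊤ (𝟙 Y) ⟨inferInstance, inferInstance⟩
  let E : FEt.Cat Y := openCover' T ⟨D, hD.2⟩ hD.1
  let O : FEt.Cat Y := openCover' T ⊥ isClosed_empty
  have : IsEmpty ↥(((FEt.restrict f).obj E).left) := by
    have key : ∀ {W : Scheme.{u}} (g : W ⟶ Y), Set.range g ⊆ D → IsEmpty ↥(pullback g f) :=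
      fun g hg => ⟨fun p => Set.eq_empty_iff_forall_notMem.1 h (pullback.snd g f p) (by
        show f (pullback.snd g f p) ∈ D
        rw [← Scheme.Hom.comp_apply, ← pullback.condition, Scheme.Hom.comp_apply]
        exact hg ⟨_, rfl⟩)⟩
    exact key E.hom (by
      rintro _ ⟨x, rfl⟩
      exact x.2)
  let m : ((FEt.restrict f).obj E) ⟶ ((FEt.restrict f).obj O) :=
    MorphismProperty.Over.homMk (isInitialOfIsEmpty.to _) (isInitialOfIsEmpty.hom_ext _ _)
  obtain ⟨n, -⟩ := (FEt.restrict f).map_surjective m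
  refine Set.eq_empty_iff_forall_notMem.2 fun y hy => ?_
  exact (n.left (⟨y, hy⟩ : (⟨D, hD.2⟩ : Y.Opens))).2.elim

theorem exists_clopen_preimage [(FEt.restrict f).Faithful] [(FEt.restrict f).EssSurj] {C : Set X}
    (hC : IsClopen C) : ∃ D : Set Y, IsClopen D ∧ f ⁻¹' D = C := by
  let TX : FEt.Cat X := MorphismProperty.Over.mk ⊤ (𝟙 X) ⟨inferInstance, inferInstance⟩
  let T : FEt.Cat Y := MorphismProperty.Over.mk ⊤ (𝟙 Y) ⟨inferInstance, inferInstance⟩
  let C0 : X.Opens := ⟨C, hC.2⟩
  let EC : FEt.Cat X := openCover' TX C0 hC.1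
  let V := (FEt.restrict f).objPreimage EC
  let e : (FEt.restrict f).obj V ≅ EC := (FEt.restrict f).objObjPreimageIso EC
  let el : pullback V.hom f ≅ C0.toScheme := (Over.forget X).mapIso ((MorphismProperty.Over.forget _ _ _).mapIso e)
  let ι : C0.toScheme ⟶ X := C0.ι
  have hw : el.hom ≫ ι = pullback.snd V.hom f :=
    (congrArg (el.hom ≫ ·) (Category.comp_id _).symm).trans (w e.hom)
  have hsm : Mono (pullback.snd V.hom f) := by rw [← hw]; infer_instance
  have hsub : ∀ {W : FEt.Cat Y} (a b : W ⟶ V), a = b := fun {W} a b => by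
    refine (FEt.restrict f).map_injective ?_
    ext : 1
    exact (cancel_mono (pullback.snd V.hom f)).1
      ((w ((FEt.restrict f).map a)).trans (w ((FEt.restrict f).map b)).symm)
  let t : V ⟶ T := MorphismProperty.Over.homMk V.hom (Category.comp_id _)
  have : Mono t := ⟨fun a b _ => hsub a b⟩
  have : IsFinite V.hom := V.prop.1
  have : Etale V.hom := V.prop.2
  have : Mono V.hom := mono_left t
  have : UniversallyInjective V.hom := inferInstance
  have : IsOpenImmersion V.hom := Groth.Agent.S3694.result V.hom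
  refine ⟨Set.range V.hom,
    ⟨V.hom.isClosedMap.isClosed_range, V.hom.isOpenEmbedding.isOpen_range⟩, ?_⟩
  rw [← Scheme.Pullback.range_snd, ← hw, Scheme.Hom.comp_base, TopCat.coe_comp, Set.range_comp,
    Set.range_eq_univ.2 el.hom.surjective, Set.image_univ]
  exact Scheme.Opens.range_ι _

end Groth.Agent.FEtEq25
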